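import Cfsg.Agent.HSGraph.Data

/-!
Checks on the copy of the graph, in terms of natural numbers.
-/

set_option autoImplicit false
set_option maxRecDepth 100000

namespace CfsgLib.HSGraph

/-- The mask of a block. -/
def maskN (j : ℕ) : ℕ := (blkPack >>> (22 * j)) &&& 4194303

/-- Adjacency. -/
def adjN (u v : ℕ) : Bool := adjPack.testBit (100 * u + v)

/-- An entry of a packed table. -/
def tabN (t k : ℕ) : ℕ := (t >>> (7 * k)) &&& 127

/-- A transposition of natural numbers. -/
def swapN (p : ℕ × ℕ) (v : ℕ) : ℕ := if v = p.1 then p.2 else if v = p.2 then p.1 else v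

/-- Check on all numbers below a bound. -/
def allLt (n : ℕ) (f : ℕ → Bool) : Bool := (List.range n).all f

theorem allLt_spec {n : ℕ} {f : ℕ → Bool} (h : allLt n f = true) {k : ℕ} (hk : k < n) : f k = true :=
  List.all_eq_true.1 h k (List.mem_range.2 hk)

theorem blkMasks_eq : blkMasks = (List.range 77).map maskN := by decide +kernel

theorem chk_triples : (allLt 22 fun a => allLt a fun b => allLt b fun c =>
    (blkMasks.countP fun m => m.testBit a && m.testBit b && m.testBit c) == 1) = true := by decide +kernel

theorem chk_distinct : (allLt 77 fun i => allLt i fun j => !(maskN i == maskN j)) = true := by decide +kernel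

theorem chk_card : (allLt 77 fun j => ((List.range 22).countP fun a => (maskN j).testBit a) == 6) = true := by
  decide +kernel

theorem chk_symm : (allLt 100 fun u => allLt u fun v => adjN u v == adjN v u) = true := by decide +kernel

theorem chk_none : (!adjN 0 0 && (allLt 22 fun a => adjN 0 (1 + a)) && allLt 77 fun j => !adjN 0 (23 + j)) = true := by
  decide +kernel

theorem chk_points : (allLt 22 fun a => allLt 22 fun b => !adjN (1 + a) (1 + b)) = true := by decide +kernel

theorem chk_point_block : (allLt 22 fun a => allLt 77 fun j => adjN (1 + a) (23 + j) == (maskN j).testBit a) = true := by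
  decide +kernel

theorem chk_blocks : (allLt 77 fun i => allLt 77 fun j =>
    adjN (23 + i) (23 + j) == (maskN i &&& maskN j == 0)) = true := by
  decide +kernel

theorem chk_g_inv : (allLt 100 fun k => decide (tabN gTab k < 100) && decide (tabN gInv k < 100) &&
    tabN gInv (tabN gTab k) == k && tabN gTab (tabN gInv k) == k) = true := by decide +kernel

theorem chk_h_inv : (allLt 100 fun k => decide (tabN hTab k < 100) && decide (tabN hInv k < 100) &&
    tabN hInv (tabN hTab k) == k && tabN hTab (tabN hInv k) == k) = true := by decide +kernel

theorem chk_g_adj : (allLt 100 fun u => allLt 100 fun v => adjN (tabN gTab u) (tabN gTab v) == adjN u v) = true := by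
  decide +kernel

theorem chk_h_adj : (allLt 100 fun u => allLt 100 fun v => adjN (tabN hTab u) (tabN hTab v) == adjN u v) = true := by
  decide +kernel

theorem chk_h_swaps : (allLt 100 fun k => hSwaps.foldr swapN k == tabN hTab k) = true := by decide +kernel

theorem chk_swaps : (hSwaps.all fun p => decide (p.1 < 100) && decide (p.2 < 100) && !(p.1 == p.2)) = true ∧
    hSwaps.length = 81 := by decide +kernel

theorem chk_moves : tabN gTab 0 = 1 ∧ tabN hTab 0 = 0 := by decide +kernel

end CfsgLib.HSGraph
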