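import Cfsg.Agent.HSGraph.RankThree
import Cfsg.Agent.Leech.HS
import Cfsg.Agent.MathieuOut.Cards
import Cfsg.Prelude.Def_Spor_Conway

/-!
The group of the model graph and the Higman-Sims group inside the Conway group agree.
-/

set_option autoImplicit false

namespace CfsgLib.HSGraph

open Cfsg MulAction CfsgLib.Leech CfsgLib.Leech.HS

/-- The hundred points. -/
abbrev HPts := {y : leechLattice // IsPoint y}

instance actHPts : MulAction HS.H HPts where
  smul g y := ⟨g • y.1, HS.point_smul g.2 y.2⟩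
  one_smul y := Subtype.ext (one_smul HS.H y.1)
  mul_smul g h y := Subtype.ext (mul_smul g h y.1)

theorem val_smul (g : HS.H) (y : HPts) : (g • y).1 = g • y.1 := rfl

theorem leech_iso : Nonempty (HS.H ≃* modelHS) := by
  haveI : Finite HPts := HS.finite_points.to_subtype
  haveI : Fintype HPts := Fintype.ofFinite _
  haveI := HS.finite_H
  haveI := HS.isSimpleGroup_H
  have h100 : Fintype.card HPts = 100 := by
    rw [← Nat.card_eq_fintype_card]
    exact (Nat.card_coe_set_eq _).trans ncard_points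
  let a : HPts := ⟨A0, isPoint_A0⟩
  have hmem : ∀ y : HPts, ∃ g : HS.H, g • a = y := fun y => by
    obtain ⟨g, hg⟩ : y.1 ∈ orbit HS.H A0 := by rw [HS.orbit_A0]; exact y.2
    exact ⟨g, Subtype.ext hg⟩
  haveI : IsPretransitive HS.H HPts := ⟨fun x y => by
    obtain ⟨g, rfl⟩ := hmem x
    obtain ⟨h, rfl⟩ := hmem y
    exact ⟨h * g⁻¹, by rw [mul_smul, inv_smul_smul]⟩⟩
  haveI : FaithfulSMul HS.H HPts := by
    have hker : (MulAction.toPermHom HS.H HPts).ker = ⊥ := by
      rcases IsSimpleGroup.eq_bot_or_eq_top_of_normal (MulAction.toPermHom HS.H HPts).ker inferInstance with h | h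
      · exact h
      · exfalso
        have : ∀ y : HPts, y = a := fun y => by
          obtain ⟨g, rfl⟩ := hmem y
          have hg : g ∈ (MulAction.toPermHom HS.H HPts).ker := h ▸ Subgroup.mem_top g
          exact Equiv.congr_fun (MonoidHom.mem_ker.1 hg) a
        haveI : Subsingleton HPts := ⟨fun x y => (this x).trans (this y).symm⟩
        have := Fintype.card_le_one_iff_subsingleton.2 this
        omega
    refine ⟨fun {g h} e => (MonoidHom.ker_eq_bot_iff _).1 hker (Equiv.ext e)⟩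
  have hst : stabilizer HS.H a = stabilizer HS.H A0 := by
    ext g
    exact ⟨fun h => congrArg Subtype.val h, fun h => Subtype.ext h⟩
  have horb : ∀ (P : HPts → Prop) (y₀ : HPts), P y₀ →
      (∀ y, P y → y ≠ a) → (∀ y, P y → ∀ g ∈ stabilizer HS.H a, P (g • y)) →
      (∀ y, P y → (dotInt A0.1 y.1.1 = 8 ↔ dotInt A0.1 y₀.1.1 = 8)) →
      orbit (stabilizer HS.H a) y₀ = {y | P y} := by
    intro P y₀ h₀ hne hinv hiff
    ext y
    refine ⟨fun ⟨g, hg⟩ => hg ▸ hinv _ h₀ g g.2, fun hy => ?_⟩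
    obtain ⟨g, g1, g2, g3, e⟩ := suborbit y₀.2 y.2 (fun e => hne _ h₀ (Subtype.ext e))
      (fun e => hne _ hy (Subtype.ext e)) (hiff y hy).symm
    exact ⟨⟨⟨g, HS.mem_H_of_fix g1 g2 g3⟩, Subtype.ext g2⟩, Subtype.ext e⟩
  have hdot : ∀ g ∈ stabilizer HS.H a, ∀ y : HPts, dotInt A0.1 (g • y).1.1 = dotInt A0.1 y.1.1 := by
    intro g hg y
    have hA : (g : Co0) • A0 = A0 := congrArg Subtype.val hg
    calc dotInt A0.1 (g • y).1.1 = dotInt ((g : Co0) • A0).1 ((g : Co0) • y.1).1 := by rw [hA]; rfl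
      _ = dotInt A0.1 y.1.1 := dot_smul _ _ _
  have hA8 : ∀ {y : leechLattice}, dotInt A0.1 y.1 = 8 → y ≠ A0 := fun {y} h e => by
    rw [e, dot_self, norm_A0] at h; omega
  have himg : ∀ S : Set leechLattice, (∀ y ∈ S, IsPoint y) →
      ({y : HPts | y.1 ∈ S}).ncard = S.ncard := fun S hS => by
    rw [← Set.ncard_image_of_injective _ Subtype.val_injective]
    congr 1
    ext y
    exact ⟨fun ⟨z, hz, e⟩ => e ▸ hz, fun hy => ⟨⟨y, hS y hy⟩, hy, rfl⟩⟩
  obtain ⟨b, hb⟩ := Set.nonempty_of_ncard_ne_zero (s := {y : leechLattice | IsPoint y ∧ dotInt A0.1 y.1 = 8})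
    (by rw [ncard_eight]; omega)
  obtain ⟨c, hc⟩ := Set.nonempty_of_ncard_ne_zero
    (s := {y : leechLattice | IsPoint y ∧ y ≠ A0 ∧ dotInt A0.1 y.1 ≠ 8}) (by rw [ncard_other]; omega)
  refine rankThree_iso (M := HS.H) h100 a ⟨b, hb.1⟩ ⟨c, hc.1⟩ ?_ ?_ ?_
  · rw [hst]; exact HS.card_stab
  · rw [horb (fun y => dotInt A0.1 y.1.1 = 8) ⟨b, hb.1⟩ hb.2 (fun y hy e => hA8 hy (congrArg Subtype.val e))
      (fun y hy g hg => (hdot g hg y).trans hy) (fun y hy => iff_of_true hy hb.2)]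
    refine (congrArg Set.ncard ?_).trans ((himg _ fun y hy => hy.1).trans ncard_eight)
    ext y
    exact ⟨fun h => ⟨y.2, h⟩, fun h => h.2⟩
  · rw [horb (fun y => y ≠ a ∧ dotInt A0.1 y.1.1 ≠ 8) ⟨c, hc.1⟩ ⟨fun e => hc.2.1 (congrArg Subtype.val e), hc.2.2⟩
      (fun y hy => hy.1) ?_ (fun y hy => iff_of_false hy.2 hc.2.2)]
    · refine (congrArg Set.ncard ?_).trans ((himg _ fun y hy => hy.1).trans ncard_other)
      ext y
      exact ⟨fun h => ⟨y.2, fun e => h.1 (Subtype.ext e), h.2⟩, fun h => ⟨fun e => h.2.1 (congrArg Subtype.val e), h.2.2⟩⟩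
    · intro y hy g hg
      refine ⟨fun e => hy.1 (MulAction.injective g (e.trans (mem_stabilizer_iff.1 hg).symm)), ?_⟩
      rw [hdot g hg y]; exact hy.2

/-- The partner of the standard vector. -/
def hsW : leechLattice := -(Spor.leechV + Spor.leechU')

theorem hs_data : sqNorm Spor.leechV.1 = 48 ∧ sqNorm hsW.1 = 48 ∧ dotInt Spor.leechV.1 hsW.1 = -32 := by
  have : sqNorm Spor.vecV = 48 ∧ sqNorm (-(Spor.vecV + Spor.vecU')) = 48 ∧
      dotInt Spor.vecV (-(Spor.vecV + Spor.vecU')) = -32 := by decide +kernel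
  exact this

theorem isoHS_model : Nonempty (modelHS ≃* Spor.HS) := by
  obtain ⟨g, gv, gw⟩ := HS.exists_map_pair hs_data.1 hs_data.2.1 hs_data.2.2
  obtain ⟨e⟩ := HS.equiv_H gv gw
  obtain ⟨e'⟩ := leech_iso
  let f : ↥Spor.HS ≃* ↥(stabilizer Co0 Spor.leechV ⊓ stabilizer Co0 hsW) :=
    { toFun := fun x => ⟨⟨x.1, (Subgroup.mem_inf.1 (Subgroup.mem_inf.1 x.2).1).1⟩,
        Subgroup.mem_inf.2 ⟨mem_stabilizer_iff.2 (mem_stabilizer_iff.1 (Subgroup.mem_inf.1 (Subgroup.mem_inf.1 x.2).1).2 :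
            x.1 Spor.leechV = Spor.leechV), by
          rw [mem_stabilizer_iff]
          let k : Co0 := ⟨x.1, (Subgroup.mem_inf.1 (Subgroup.mem_inf.1 x.2).1).1⟩
          show k • (-(Spor.leechV + Spor.leechU')) = -(Spor.leechV + Spor.leechU')
          rw [smul_neg', smul_add',
            show k • Spor.leechV = Spor.leechV from mem_stabilizer_iff.1 (Subgroup.mem_inf.1 (Subgroup.mem_inf.1 x.2).1).2,
            show k • Spor.leechU' = Spor.leechU' from mem_stabilizer_iff.1 (Subgroup.mem_inf.1 x.2).2]⟩⟩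
      invFun := fun x => ⟨x.1.1, Subgroup.mem_inf.2 ⟨Subgroup.mem_inf.2 ⟨x.1.2,
          mem_stabilizer_iff.2 (mem_stabilizer_iff.1 (Subgroup.mem_inf.1 x.2).1 : x.1 • Spor.leechV = Spor.leechV)⟩, by
        have h1 : x.1 • Spor.leechV = Spor.leechV := mem_stabilizer_iff.1 (Subgroup.mem_inf.1 x.2).1
        have h2 : x.1 • hsW = hsW := mem_stabilizer_iff.1 (Subgroup.mem_inf.1 x.2).2
        change x.1 • (-(Spor.leechV + Spor.leechU')) = -(Spor.leechV + Spor.leechU') at h2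
        rw [smul_neg', smul_add', h1, neg_inj, add_right_inj] at h2
        exact mem_stabilizer_iff.2 h2⟩⟩
      left_inv := fun x => rfl
      right_inv := fun x => rfl
      map_mul' := fun x y => rfl }
  exact ⟨((f.trans e).trans e').symm⟩

universe u

theorem recognition {Ω : Type u} [Fintype Ω] [DecidableEq Ω] (hΩ : Fintype.card Ω = 100)
    (G : Subgroup (Equiv.Perm Ω)) [IsPretransitive G Ω] (a : Ω) (e : stabilizer G a ≃* Spor.M22) (b c : Ω)
    (hb : (orbit (stabilizer G a) b).ncard = 22) (hc : (orbit (stabilizer G a) c).ncard = 77) : Spor.IsoHS G := by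
  obtain ⟨f⟩ := rankThree_iso (M := G) hΩ a b c ((Nat.card_congr e.toEquiv).trans MathieuOut.card_M22) hb hc
  obtain ⟨f'⟩ := isoHS_model
  exact ⟨f.trans f'⟩

end CfsgLib.HSGraph
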