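import Cfsg.Agent.HSGraph.Model

/-!
The automorphism group of the point-block graph of an S(3,6,22) and its simple subgroup of index two.
-/

set_option autoImplicit false
set_option linter.style.haveILetI false

namespace CfsgLib.HSGraph

open Cfsg CfsgLib.Steiner MulAction
open scoped Pointwise

universe u v

theorem relabel_adj {α : Type u} {β : Type v} [DecidableEq β] {B : Set (Finset α)} {B' : Set (Finset β)}
    (e : α ≃ β) (he : ∀ b ∈ B, b.image e ∈ B') (x y : Option (α ⊕ B)) :
    pointBlockRel B' (x.map (Sum.map e fun b : B => ⟨(b : Finset α).image e, he _ b.2⟩))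
      (y.map (Sum.map e fun b : B => ⟨(b : Finset α).image e, he _ b.2⟩)) ↔ pointBlockRel B x y := by
  rcases x with _ | a | b <;> rcases y with _ | a' | b' <;>
    simp [pointBlockRel, Finset.disjoint_image e.injective]

/-- Relabelling gives an isomorphism of graphs. -/
theorem exists_graphIso {α : Type u} {β : Type v} [DecidableEq β] {B : Set (Finset α)} {B' : Set (Finset β)}
    (h : SetSystemIso B B') : ∃ ψ : pointBlockGraph B ≃g pointBlockGraph B', ψ none = none ∧
      ∀ a, ∃ a', ψ.symm (some (Sum.inl a)) = some (Sum.inl a') := by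
  obtain ⟨e, he⟩ := h
  have hm : ∀ b ∈ B, b.image e ∈ B' := fun b hb => he ▸ ⟨b, hb, rfl⟩
  let eB : B ≃ B' := Equiv.ofBijective (fun b => ⟨(b : Finset α).image e, hm _ b.2⟩)
    ⟨fun b c h => Subtype.ext (Finset.image_injective e.injective (congrArg Subtype.val h)), fun c => by
      obtain ⟨b, hb, hbc⟩ : (c : Finset β) ∈ (fun b : Finset α => b.image e) '' B := by rw [he]; exact c.2
      exact ⟨⟨b, hb⟩, Subtype.ext hbc⟩⟩
  let E : Option (α ⊕ B) ≃ Option (β ⊕ B') := Equiv.optionCongr (Equiv.sumCongr e eB)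
  have hE : ∀ x, E x = x.map (Sum.map e fun b : B => ⟨(b : Finset α).image e, hm _ b.2⟩) := fun x => by
    rcases x with _ | a | b <;> rfl
  refine ⟨⟨E, fun {x y} => ?_⟩, rfl, fun a => ⟨e.symm a, rfl⟩⟩
  simp only [pointBlockGraph, SimpleGraph.fromRel_adj, ne_eq, E.injective.eq_iff]
  rw [hE, hE, relabel_adj e hm, relabel_adj e hm]

variable {α : Type u} [Fintype α] [DecidableEq α] {B : Set (Finset α)}

/-- The action on the vertices. -/
instance instMulActionAut : MulAction (Aut B) (Option (α ⊕ B)) where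
  smul g x := g x
  one_smul _ := rfl
  mul_smul _ _ _ := rfl

theorem smul_def (g : Aut B) (x : Option (α ⊕ B)) : g • x = g x := rfl

theorem exists_special (hB : IsSteinerSystem 3 6 B) (hα : Fintype.card α = 22) [Fintype B] :
    (∃ g : Aut B, ∃ a, g none = some (Sum.inl a)) ∧
      ∃ h : Aut B, h none = none ∧ Equiv.Perm.sign (toPerm B h) = -1 := by
  classical
  obtain ⟨ψ, h0, hs⟩ := exists_graphIso (iso22 hB hα steiner0 (Fintype.card_fin 22))
  have h0' : ψ.symm none = none := by
    conv_lhs => rw [← h0]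
    exact ψ.symm_apply_apply none
  refine ⟨⟨(ψ.trans (mkAut gPerm gPerm_adj)).trans ψ.symm, ?_⟩,
    (ψ.trans (mkAut hPerm hPerm_adj)).trans ψ.symm, ?_, ?_⟩
  · obtain ⟨a, ha⟩ := hs 0
    refine ⟨a, ?_⟩
    show ψ.symm (mkAut gPerm gPerm_adj (ψ none)) = _
    rw [h0, mkAut_g_none, ha]
  · show ψ.symm (mkAut hPerm hPerm_adj (ψ none)) = _
    rw [h0, mkAut_h_none, h0']
  · have : toPerm B ((ψ.trans (mkAut hPerm hPerm_adj)).trans ψ.symm) =
        ((ψ.toEquiv.trans vEquiv).symm).permCongr hPerm := by
      ext x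
      rfl
    rw [this, Equiv.Perm.sign_permCongr, sign_hPerm]

theorem finite_aut : Finite (Aut B) := Finite.of_injective (toPerm B) toPerm_injective

theorem transitive (hB : IsSteinerSystem 3 6 B) (hα : Fintype.card α = 22) :
    orbit (Aut B) (none : Option (α ⊕ B)) = Set.univ := by
  classical
  haveI : Fintype B := Fintype.ofFinite _
  obtain ⟨⟨g, a, hg⟩, -⟩ := exists_special hB hα
  have hp : ∀ a', some (Sum.inl a') ∈ orbit (Aut B) (none : Option (α ⊕ B)) := fun a' => by
    obtain ⟨π, hπ⟩ := points_trans hB hα a a'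
    refine ⟨lift B π * g, ?_⟩
    show lift B π (g none) = _
    rw [hg, ← hπ]
    rfl
  -- a point goes to a block
  have hblock : ∃ c : B, some (Sum.inr c) ∈ orbit (Aut B) (none : Option (α ⊕ B)) := by
    obtain ⟨x₀, hx₀⟩ : ∃ x : α, g (some (Sum.inl x)) ≠ none := by
      obtain ⟨x, y, hxy⟩ := Fintype.exists_pair_of_one_lt_card (α := α) (by omega)
      by_cases h : g (some (Sum.inl x)) = none
      · refine ⟨y, fun h' => hxy ?_⟩
        exact Sum.inl.inj (Option.some.inj (g.injective (h.trans h'.symm)))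
      · exact ⟨x, h⟩
    have hadj : (pointBlockGraph B).Adj (some (Sum.inl a)) (g (some (Sum.inl x₀))) := by
      rw [← hg, g.map_rel_iff]
      exact adj_none.2 ⟨x₀, rfl⟩
    rcases hx : g (some (Sum.inl x₀)) with _ | a' | c
    · exact absurd hx hx₀
    · rw [hx] at hadj
      simp [pointBlockGraph, SimpleGraph.fromRel_adj, pointBlockRel] at hadj
    · refine ⟨c, ?_⟩
      obtain ⟨k, hk⟩ := hp x₀
      exact ⟨g * k, by show g (k none) = _; rw [show k none = _ from hk, hx]⟩
  obtain ⟨c, k, hk⟩ := hblock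
  refine Set.eq_univ_of_forall fun x => ?_
  rcases x with _ | a' | c'
  · exact mem_orbit_self _
  · exact hp a'
  · obtain ⟨π, hπ⟩ := blocks_trans hB hα c c'
    refine ⟨lift B π * k, ?_⟩
    show lift B π (k none) = _
    rw [show k none = _ from hk]
    show some (Sum.inr _) = _
    congr 2
    exact Subtype.ext hπ

theorem card_vertices (hB : IsSteinerSystem 3 6 B) (hα : Fintype.card α = 22) :
    Nat.card (Option (α ⊕ B)) = 100 := by
  rw [Finite.card_option, Nat.card_sum, Nat.card_eq_fintype_card, hα, Graph22.card_blocks hB hα]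

theorem stab_eq_range (hB : IsSteinerSystem 3 6 B) :
    stabilizer (Aut B) (none : Option (α ⊕ B)) = (lift B).range := by
  ext g
  rw [mem_stabilizer_iff, MonoidHom.mem_range]
  exact ⟨fun h => exists_lift hB h, fun ⟨π, hπ⟩ => hπ ▸ rfl⟩

theorem card_aut (hB : IsSteinerSystem 3 6 B) (hα : Fintype.card α = 22) : Nat.card (Aut B) = 88704000 := by
  haveI := finite_aut (B := B)
  have h : Nat.card (orbit (Aut B) (none : Option (α ⊕ B))) * Nat.card (stabilizer (Aut B) (none : Option (α ⊕ B))) =
      Nat.card (Aut B) := by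
    rw [Nat.card_congr (orbitEquivQuotientStabilizer (Aut B) (none : Option (α ⊕ B))),
      ← Subgroup.card_eq_card_quotient_mul_card_subgroup]
  rw [transitive hB hα, Nat.card_univ, card_vertices hB hα, stab_eq_range hB,
    ← Nat.card_congr (MonoidHom.ofInjective (lift_injective (B := B))).toEquiv, (aut22 hB hα).1] at h
  omega

/-- A point stabiliser argument: simplicity from a simple stabiliser. -/
theorem isSimple_of_stabilizer {G Ω : Type*} [Group G] [Finite G] [MulAction G Ω] [FaithfulSMul G Ω] (ω : Ω)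
    (htr : IsPretransitive G Ω) (hs : IsSimpleGroup (stabilizer G ω)) (hcard : Nat.card Ω = 100)
    (hblocks : ∀ S : Set Ω, ω ∈ S → (∀ h ∈ stabilizer G ω, ∀ x ∈ S, h • x ∈ S) →
      S.ncard ∈ ({1, 23, 78, 100} : Set ℕ)) : IsSimpleGroup G := by
  haveI : Finite Ω := Nat.finite_of_card_ne_zero (by rw [hcard]; norm_num)
  haveI : Nontrivial G := (stabilizer G ω).subtype_injective.nontrivial
  refine ⟨fun N hN => ?_⟩
  by_contra hc
  push Not at hc
  obtain ⟨hbot, htop⟩ := hc
  -- the orbit of `ω` under `N`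
  have hinv : ∀ h ∈ stabilizer G ω, ∀ x ∈ orbit N ω, h • x ∈ orbit N ω := by
    rintro h hh _ ⟨n, rfl⟩
    refine ⟨⟨h * n * h⁻¹, hN.conj_mem _ n.2 h⟩, ?_⟩
    show (h * n * h⁻¹) • ω = h • ((n : G) • ω)
    rw [mul_smul, mul_smul, mem_stabilizer_iff.1 (inv_mem hh)]
  have hdiv : (orbit N ω).ncard ∣ 100 := by
    rw [← hcard]
    have hb : IsBlock G (orbit N ω) := IsBlock.orbit_of_normal ω
    exact hb.ncard_dvd_card ⟨ω, mem_orbit_self _⟩
  have hsz := hblocks _ (mem_orbit_self _) hinv
  have htrans : (orbit N ω).ncard = 100 := by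
    simp only [Set.mem_insert_iff, Set.mem_singleton_iff] at hsz
    rcases hsz with h | h | h | h
    · exfalso
      apply hbot
      rw [eq_bot_iff]
      intro n hn
      rw [Subgroup.mem_bot]
      apply eq_of_smul_eq_smul (α := Ω)
      intro x
      obtain ⟨g, rfl⟩ := htr.exists_smul_eq ω x
      obtain ⟨a, ha⟩ := Set.ncard_eq_one.1 h
      have h1 : (g⁻¹ * n * g) • ω ∈ orbit N ω := ⟨⟨g⁻¹ * n * g, by simpa using hN.conj_mem n hn g⁻¹⟩, rfl⟩
      have h2 : ω ∈ orbit N ω := mem_orbit_self _
      rw [ha, Set.mem_singleton_iff] at h1 h2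
      rw [one_smul]
      calc n • g • ω = g • ((g⁻¹ * n * g) • ω) := by rw [← mul_smul, ← mul_smul]; group
        _ = g • ω := by rw [h1, ← h2]
    · rw [h] at hdiv; norm_num at hdiv
    · rw [h] at hdiv; norm_num at hdiv
    · exact h
  have horb : orbit N ω = Set.univ :=
    Set.eq_of_subset_of_ncard_le (Set.subset_univ _) (by rw [Set.ncard_univ, hcard, htrans]) (Set.toFinite _)
  haveI := hs
  rcases IsSimpleGroup.eq_bot_or_eq_top_of_normal ((N.subgroupOf (stabilizer G ω))) inferInstance with h | h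
  · -- regular: the elements killed by 25 give a set of 25 points
    have hinj : Function.Injective fun n : N => (n : G) • ω := by
      intro n m e
      have h1 : (m : G)⁻¹ * n ∈ stabilizer G ω := by
        rw [mem_stabilizer_iff, mul_smul, show (n : G) • ω = (m : G) • ω from e, inv_smul_smul]
      have h2 : (⟨_, h1⟩ : stabilizer G ω) ∈ N.subgroupOf (stabilizer G ω) := mul_mem (inv_mem m.2) n.2
      rw [h, Subgroup.mem_bot] at h2
      exact Subtype.ext (inv_mul_eq_one.1 (congrArg Subtype.val h2)).symm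
    have hNcard : Nat.card N = 100 := by
      rw [← htrans, Set.ncard_def, ← Nat.card_coe_set_eq (orbit N ω) |>.symm.trans (Set.ncard_def _)]
      exact Nat.card_congr (Equiv.ofInjective _ hinj)
    haveI : Fact (Nat.Prime 5) := ⟨by norm_num⟩
    let P : Sylow 5 N := default
    have hP : Nat.card (P : Subgroup N) = 25 := by
      have hfac : (100 : ℕ).factorization 5 = 2 := by
        rw [show (100 : ℕ) = 5 ^ 2 * 4 by norm_num, Nat.factorization_mul (by norm_num) (by norm_num),
          Finsupp.add_apply, Nat.Prime.factorization_pow (by norm_num), Finsupp.single_eq_same,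
          Nat.factorization_eq_zero_of_not_dvd (by norm_num : ¬ 5 ∣ 4)]
      rw [P.card_eq_multiplicity, hNcard, hfac]
      norm_num
    have hP1 : Nat.card (Sylow 5 N) = 1 := by
      have h1 := card_sylow_modEq_one 5 N
      have h2 : Nat.card (Sylow 5 N) ∣ 4 := by
        have := P.card_dvd_index
        have e := (P : Subgroup N).card_mul_index
        rw [hP, hNcard] at e
        rwa [show (P : Subgroup N).index = 4 by omega] at this
      have h3 := Nat.le_of_dvd (by norm_num) h2
      unfold Nat.ModEq at h1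
      interval_cases (Nat.card (Sylow 5 N)) <;> omega
    haveI : Subsingleton (Sylow 5 N) := (Nat.card_eq_one_iff_unique.1 hP1).1
    have hPset : ∀ n : N, n ∈ (P : Subgroup N) ↔ n ^ 25 = 1 := by
      refine fun n => ⟨fun hn => ?_, fun hn => ?_⟩
      · rw [← hP]
        exact congrArg Subtype.val (pow_card_eq_one' (x := (⟨n, hn⟩ : (P : Subgroup N))))
      · have hp : IsPGroup 5 (Subgroup.zpowers n) := by
          intro x
          obtain ⟨i, hi⟩ := Subgroup.mem_zpowers_iff.1 x.2
          refine ⟨2, Subtype.ext ?_⟩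
          show (x : N) ^ (5 ^ 2) = 1
          rw [← hi, ← zpow_natCast, ← zpow_mul, mul_comm, zpow_mul, zpow_natCast]
          norm_num [hn]
        obtain ⟨Q, hQ⟩ := hp.exists_le_sylow
        rw [Subsingleton.elim P Q]
        exact hQ (Subgroup.mem_zpowers n)
    let S : Set Ω := (fun n : N => (n : G) • ω) '' ((P : Subgroup N) : Set N)
    have hSinv : ∀ k ∈ stabilizer G ω, ∀ x ∈ S, k • x ∈ S := by
      rintro k hk _ ⟨n, hn, rfl⟩
      refine ⟨⟨k * n * k⁻¹, hN.conj_mem _ n.2 k⟩, ?_, ?_⟩
      · rw [SetLike.mem_coe, hPset] at hn ⊢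
        apply Subtype.ext
        show (k * (n : G) * k⁻¹) ^ 25 = 1
        rw [conj_pow, ← Subgroup.coe_pow, hn]
        simp
      · show (k * (n : G) * k⁻¹) • ω = k • ((n : G) • ω)
        rw [mul_smul, mul_smul, mem_stabilizer_iff.1 (inv_mem hk)]
    have hS := hblocks S ⟨1, one_mem _, one_smul _ _⟩ hSinv
    have hS25 : S.ncard = 25 := by
      rw [Set.ncard_image_of_injective _ hinj, ← Nat.card_coe_set_eq]
      exact hP
    rw [hS25] at hS
    norm_num at hS
  · apply htop
    rw [eq_top_iff]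
    intro g _
    obtain ⟨n, hn⟩ : g • ω ∈ orbit N ω := by rw [horb]; trivial
    have h1 : (n : G)⁻¹ * g ∈ stabilizer G ω := by
      rw [mem_stabilizer_iff, mul_smul, ← show (n : G) • ω = g • ω from hn, inv_smul_smul]
    have h2 : (⟨_, h1⟩ : stabilizer G ω) ∈ N.subgroupOf (stabilizer G ω) := h ▸ Subgroup.mem_top _
    have := mul_mem n.2 (show (n : G)⁻¹ * g ∈ N from h2)
    rwa [mul_inv_cancel_left] at this

/-- The simple subgroup. -/
theorem exists_HS (hB : IsSteinerSystem 3 6 B) (hα : Fintype.card α = 22) :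
    ∃ H : Subgroup (Aut B), IsHS H := by
  classical
  haveI : Fintype B := Fintype.ofFinite _
  haveI := finite_aut (B := B)
  let φ : Aut B →* ℤˣ := Equiv.Perm.sign.comp (toPerm B)
  obtain ⟨-, k, hk0, hk⟩ := exists_special hB hα
  have hkφ : φ k = -1 := hk
  have hindex : φ.ker.index = 2 := by
    rw [Subgroup.index_ker, show φ.range = ⊤ from ?_, Subgroup.card_top, Nat.card_eq_fintype_card,
      Fintype.card_units_int]
    rw [eq_top_iff]
    intro z _
    rcases Int.units_eq_one_or z with rfl | rfl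
    · exact one_mem _
    · exact ⟨k, hkφ⟩
  have hH : Nat.card φ.ker = 44352000 := by
    have h := φ.ker.card_mul_index
    rw [hindex, card_aut hB hα] at h
    omega
  obtain ⟨hcA, h3, K, hK2, hKs, hKc⟩ := aut22 hB hα
  haveI : K.Normal := Subgroup.normal_of_index_eq_two hK2
  let ψ : setSystemAut B →* ℤˣ := φ.comp (lift B)
  have hψidx : ψ.ker.index = 2 := by
    obtain ⟨π, hπ⟩ := exists_lift hB hk0
    rw [Subgroup.index_ker, show ψ.range = ⊤ from ?_, Subgroup.card_top, Nat.card_eq_fintype_card,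
      Fintype.card_units_int]
    rw [eq_top_iff]
    intro z _
    rcases Int.units_eq_one_or z with rfl | rfl
    · exact one_mem _
    · exact ⟨π, by show φ (lift B π) = -1; rw [hπ]; exact hkφ⟩
  have hKψ : K = ψ.ker := by
    haveI := hKs
    have hle : K ≤ ψ.ker := by
      rcases IsSimpleGroup.eq_bot_or_eq_top_of_normal (ψ.ker.subgroupOf K) inferInstance with h | h
      · exfalso
        -- then `K` embeds into the units
        have hi : Function.Injective (ψ.comp K.subtype) := by
          rw [injective_iff_map_eq_one]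
          intro x hx
          have : x ∈ ψ.ker.subgroupOf K := hx
          rwa [h, Subgroup.mem_bot] at this
        have := Nat.card_le_card_of_injective _ hi
        rw [hKc, Nat.card_eq_fintype_card, Fintype.card_units_int] at this
        omega
      · exact Subgroup.subgroupOf_eq_top.1 h
    refine Subgroup.eq_of_le_of_card_ge hle ?_
    have h1 := K.card_mul_index
    have h2 := ψ.ker.card_mul_index
    rw [hK2] at h1
    rw [hψidx] at h2
    omega
  refine ⟨φ.ker, ?_, hH⟩
  haveI : FaithfulSMul φ.ker (Option (α ⊕ B)) :=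
    ⟨fun {a b} h => Subtype.ext (RelIso.ext fun x => h x)⟩
  have hlift : ∀ π : K, lift B (π : setSystemAut B) ∈ φ.ker := fun π => by
    show ψ (π : setSystemAut B) = 1
    exact MonoidHom.mem_ker.1 (hKψ ▸ π.2)
  have htr : IsPretransitive φ.ker (Option (α ⊕ B)) := by
    have key : ∀ x, ∃ h : φ.ker, h • (none : Option (α ⊕ B)) = x := by
      intro x
      obtain ⟨g, hg⟩ : x ∈ orbit (Aut B) (none : Option (α ⊕ B)) := by rw [transitive hB hα]; trivial
      rcases Int.units_eq_one_or (φ g) with h | h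
      · exact ⟨⟨g, h⟩, hg⟩
      · refine ⟨⟨g * k, by rw [MonoidHom.mem_ker, map_mul, h, hkφ]; rfl⟩, ?_⟩
        show g (k none) = x
        rw [hk0]; exact hg
    refine ⟨fun x y => ?_⟩
    obtain ⟨a, rfl⟩ := key x
    obtain ⟨b, rfl⟩ := key y
    exact ⟨b * a⁻¹, by rw [mul_smul, inv_smul_smul]⟩
  -- the stabiliser is the simple group `K`
  let η : K →* stabilizer φ.ker (none : Option (α ⊕ B)) :=
    MonoidHom.mk' (fun π => ⟨⟨lift B (π : setSystemAut B), hlift π⟩, rfl⟩)
      fun a b => Subtype.ext (Subtype.ext (map_mul (lift B) _ _))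
  have hη : Function.Bijective η := by
    refine ⟨fun a b h => Subtype.ext (lift_injective (congrArg Subtype.val (congrArg Subtype.val h))), ?_⟩
    rintro ⟨⟨g, hg⟩, hg0⟩
    obtain ⟨π, hπ⟩ := exists_lift hB (show g none = none from hg0)
    refine ⟨⟨π, ?_⟩, Subtype.ext (Subtype.ext hπ)⟩
    rw [hKψ]
    show φ (lift B π) = 1
    rw [hπ]
    exact hg
  have hsimple : IsSimpleGroup (stabilizer φ.ker (none : Option (α ⊕ B))) :=
    haveI := hKs
    (MulEquiv.ofBijective η hη).symm.isSimpleGroup
  -- transitivity of `K` on points and blocks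
  have hKne : K ≠ ⊥ := fun e => by
    rw [e, Subgroup.card_bot] at hKc
    norm_num at hKc
  have hKpts : ∀ a a' : α, ∃ π : K, (π : setSystemAut B).1 a = a' := by
    haveI := h3
    haveI : IsMultiplyPretransitive (setSystemAut B) α 2 :=
      MulAction.isMultiplyPretransitive_of_le (n := 3) (by norm_num) (by rw [Nat.card_eq_fintype_card, hα]; norm_num)
    haveI : IsPreprimitive (setSystemAut B) α := isPreprimitive_of_is_two_pretransitive inferInstance
    haveI : IsQuasiPreprimitive (setSystemAut B) α := IsPreprimitive.isQuasiPreprimitive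
    have hfix : fixedPoints K α ≠ Set.univ := by
      intro h
      apply hKne
      rw [eq_bot_iff]
      intro x hx
      rw [Subgroup.mem_bot]
      refine Subtype.ext (Equiv.ext fun y => ?_)
      exact (h ▸ Set.mem_univ y : y ∈ fixedPoints K α) ⟨x, hx⟩
    have := IsQuasiPreprimitive.isPretransitive_of_normal (G := setSystemAut B) (X := α) (N := K) hfix
    exact fun a a' => this.exists_smul_eq a a'
  obtain ⟨b₀, -⟩ : ∃ b₀ : B, True := by
    have h77 := Graph22.card_blocks hB hα
    have : Nonempty B := (Nat.card_pos_iff.1 (by omega)).1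
    exact ⟨this.some, trivial⟩
  have hKblk : ∀ b c : B, ∃ π : K, (π : setSystemAut B).1 • (b : Finset α) = (c : Finset α) := by
    -- the images of `b₀` under `K` are all or half of the 77 blocks
    by_contra hcon
    push Not at hcon
    obtain ⟨b, c, hbc⟩ := hcon
    obtain ⟨π₀, hπ₀⟩ := blocks_trans hB hα b c
    have hπK : π₀ ∉ K := fun h => hbc ⟨π₀, h⟩ hπ₀
    let S : Finset B := Finset.univ.filter fun x => ∃ π : K, (π : setSystemAut B).1 • (b : Finset α) = (x : Finset α)
    let f : B → B := fun x => ⟨π₀.1 • (x : Finset α), by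
      have := Set.smul_mem_smul_set (a := π₀.1) x.2
      rwa [mem_stabilizer_iff.1 π₀.2] at this⟩
    have hcompl : S.image f = Sᶜ := by
      ext y
      simp only [Finset.mem_image, Finset.mem_compl, S, Finset.mem_filter, Finset.mem_univ, true_and]
      constructor
      · rintro ⟨x, ⟨π, hπ⟩, rfl⟩ ⟨ρ, hρ⟩
        have hρ' : (ρ : setSystemAut B).1 • (b : Finset α) = π₀.1 • (π : setSystemAut B).1 • (b : Finset α) := by
          rw [hρ, hπ]
        have hmem : π₀ * (π : setSystemAut B) * π₀⁻¹ ∈ K := Subgroup.Normal.conj_mem inferInstance _ π.2 _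
        refine hbc ⟨(π₀ * (π : setSystemAut B) * π₀⁻¹)⁻¹ * ρ, mul_mem (inv_mem hmem) ρ.2⟩ ?_
        show ((π₀ * (π : setSystemAut B) * π₀⁻¹)⁻¹ * (ρ : setSystemAut B)).1 • (b : Finset α) = _
        rw [Subgroup.coe_mul, mul_smul, hρ', ← hπ₀]
        simp [mul_smul]
      · intro hy
        obtain ⟨σ, hσ⟩ := blocks_trans hB hα b y
        have hσK : σ ∉ K := fun h => hy ⟨⟨σ, h⟩, hσ⟩
        have h1 : π₀⁻¹ * σ ∈ K := by
          rw [Subgroup.mul_mem_iff_of_index_two hK2, inv_mem_iff]
          tauto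
        refine ⟨⟨(π₀⁻¹ * σ).1 • (b : Finset α), by
          have := Set.smul_mem_smul_set (a := (π₀⁻¹ * σ).1) b.2
          rwa [mem_stabilizer_iff.1 (π₀⁻¹ * σ).2] at this⟩, ⟨⟨_, h1⟩, rfl⟩, Subtype.ext ?_⟩
        show π₀.1 • ((π₀⁻¹ * σ).1 • (b : Finset α)) = y
        rw [← mul_smul, ← Subgroup.coe_mul, mul_inv_cancel_left, hσ]
    have hf : Function.Injective f := fun x y e => Subtype.ext (MulAction.injective π₀.1 (congrArg Subtype.val e))
    have h := congrArg Finset.card hcompl
    rw [Finset.card_image_of_injective _ hf, Finset.card_compl, ← Nat.card_eq_fintype_card,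
      Graph22.card_blocks hB hα] at h
    omega
  refine isSimple_of_stabilizer (none : Option (α ⊕ B)) htr hsimple (card_vertices hB hα) fun S h0 hS => ?_
  have hK' : ∀ (π : K) x, x ∈ S → lift B (π : setSystemAut B) x ∈ S := fun π x hx =>
    hS ⟨_, hlift π⟩ rfl x hx
  have hcases : ∀ (T : Set (Option (α ⊕ B))), S = T → T.ncard ∈ ({1, 23, 78, 100} : Set ℕ) →
      S.ncard ∈ ({1, 23, 78, 100} : Set ℕ) := fun T e h => e ▸ h
  by_cases hp : ∃ a, some (Sum.inl a) ∈ S <;> by_cases hb : ∃ b, some (Sum.inr b) ∈ S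
  all_goals
    have hP : (∃ a, some (Sum.inl a) ∈ S) → ∀ a, some (Sum.inl a) ∈ S := fun ⟨a, ha⟩ a' => by
      obtain ⟨π, rfl⟩ := hKpts a a'
      exact hK' π _ ha
    have hBk : (∃ b, some (Sum.inr b) ∈ S) → ∀ b, some (Sum.inr b) ∈ S := fun ⟨b, hb⟩ b' => by
      obtain ⟨π, hπ⟩ := hKblk b b'
      have := hK' π _ hb
      have e : lift B (π : setSystemAut B) (some (Sum.inr b)) = some (Sum.inr b') := by
        show some (Sum.inr _) = _
        congr 2
        exact Subtype.ext hπ
      rwa [e] at this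
    rw [Graph22.ncard_split S, if_pos h0]
    first
      | rw [show {a | some (Sum.inl a) ∈ S} = Set.univ from Set.eq_univ_of_forall (hP hp)]
      | rw [show {a | some (Sum.inl a) ∈ S} = ∅ from Set.eq_empty_of_forall_notMem fun a ha => hp ⟨a, ha⟩]
    first
      | rw [show {c | some (Sum.inr c) ∈ S} = Set.univ from Set.eq_univ_of_forall (hBk hb)]
      | rw [show {c | some (Sum.inr c) ∈ S} = ∅ from Set.eq_empty_of_forall_notMem fun c hc => hb ⟨c, hc⟩]
    simp [Set.ncard_univ, hα, Graph22.card_blocks hB hα, show B.ncard = 77 by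
      rw [← Nat.card_coe_set_eq, Graph22.card_blocks hB hα]]

end CfsgLib.HSGraph
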