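import Cfsg.Agent.Steiner.Graph22
import Cfsg.Agent.Steiner.Iso22

/-!
Automorphisms of the point-block graph fixing the extra vertex.
-/

set_option autoImplicit false

namespace CfsgLib.HSGraph

open Cfsg CfsgLib.Steiner MulAction
open scoped Pointwise

universe u

variable {α : Type u} {B : Set (Finset α)}

theorem adj_none {w : Option (α ⊕ B)} :
    (pointBlockGraph B).Adj none w ↔ ∃ a, w = some (Sum.inl a) := by
  rcases w with _ | a | b <;> simp [pointBlockGraph, SimpleGraph.fromRel_adj, pointBlockRel]

theorem adj_point_block {a : α} {b : B} :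
    (pointBlockGraph B).Adj (some (Sum.inl a)) (some (Sum.inr b)) ↔ a ∈ (b : Finset α) := by
  simp [pointBlockGraph, SimpleGraph.fromRel_adj, pointBlockRel]

theorem adj_block_block [Fintype α] [DecidableEq α] (hB : IsSteinerSystem 3 6 B) {b c : B} :
    (pointBlockGraph B).Adj (some (Sum.inr b)) (some (Sum.inr c)) ↔ Disjoint (b : Finset α) (c : Finset α) := by
  simp only [pointBlockGraph, SimpleGraph.fromRel_adj, pointBlockRel]
  refine ⟨fun h => h.2.elim id fun h' => h'.symm, fun h => ⟨fun e => ?_, Or.inl h⟩⟩
  obtain rfl := Sum.inr.inj (Option.some.inj e)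
  exact Graph22.block_ne_empty hB b h

/-- The automorphism group of the graph. -/
abbrev Aut (B : Set (Finset α)) := pointBlockGraph B ≃g pointBlockGraph B

/-- An automorphism as a permutation of the vertices. -/
def toPerm (B : Set (Finset α)) : Aut B →* Equiv.Perm (Option (α ⊕ B)) where
  toFun g := g.toEquiv
  map_one' := rfl
  map_mul' _ _ := rfl

theorem toPerm_injective : Function.Injective (toPerm B) := fun g g' h => RelIso.ext fun x => Equiv.congr_fun h x

variable [Fintype α] [DecidableEq α]

/-- The vertices moved by an automorphism of the system. -/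
def vmap (π : setSystemAut B) : Option (α ⊕ B) → Option (α ⊕ B)
  | none => none
  | some (Sum.inl a) => some (Sum.inl (π.1 a))
  | some (Sum.inr b) => some (Sum.inr ⟨π.1 • (b : Finset α), by
      have := Set.smul_mem_smul_set (a := π.1) b.2
      rwa [mem_stabilizer_iff.1 π.2] at this⟩)

theorem vmap_one (x : Option (α ⊕ B)) : vmap 1 x = x := by
  rcases x with _ | a | b
  · rfl
  · rfl
  · show some (Sum.inr _) = _
    congr 2
    exact Subtype.ext (one_smul _ _)

theorem vmap_mul (π ρ : setSystemAut B) (x : Option (α ⊕ B)) : vmap (π * ρ) x = vmap π (vmap ρ x) := by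
  rcases x with _ | a | b
  · rfl
  · rfl
  · show some (Sum.inr _) = some (Sum.inr _)
    congr 2
    exact Subtype.ext (mul_smul _ _ _)

theorem adj_vmap (π : setSystemAut B) (x y : Option (α ⊕ B)) (h : (pointBlockGraph B).Adj x y) :
    (pointBlockGraph B).Adj (vmap π x) (vmap π y) := by
  simp only [pointBlockGraph, SimpleGraph.fromRel_adj] at h ⊢
  refine ⟨fun e => h.1 ?_, ?_⟩
  · have := congrArg (vmap π⁻¹) e
    rwa [← vmap_mul, ← vmap_mul, inv_mul_cancel, vmap_one, vmap_one] at this
  · rcases x with _ | a | b <;> rcases y with _ | a' | b' <;>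
      simp_all [vmap, pointBlockRel, Finset.mem_smul_finset, Finset.disjoint_iff_ne]

/-- The automorphism of the graph given by one of the system. -/
def lift (B : Set (Finset α)) : setSystemAut B →* Aut B where
  toFun π :=
    { toFun := vmap π
      invFun := vmap π⁻¹
      left_inv := fun x => by rw [← vmap_mul, inv_mul_cancel, vmap_one]
      right_inv := fun x => by rw [← vmap_mul, mul_inv_cancel, vmap_one]
      map_rel_iff' := fun {x y} => ⟨fun h => by
        have := adj_vmap π⁻¹ _ _ h
        simpa [← vmap_mul, vmap_one] using this, adj_vmap π x y⟩ }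
  map_one' := RelIso.ext fun x => vmap_one x
  map_mul' π ρ := RelIso.ext fun x => vmap_mul π ρ x

theorem lift_none (π : setSystemAut B) : lift B π none = none := rfl

theorem lift_injective : Function.Injective (lift B) := fun π ρ h => Subtype.ext (Equiv.ext fun a => by
  have := DFunLike.congr_fun h (some (Sum.inl a))
  exact Sum.inl.inj (Option.some.inj this))

theorem exists_lift (hB : IsSteinerSystem 3 6 B) {g : Aut B} (hg : g none = none) : ∃ π, lift B π = g := by
  have hpt : ∀ a, ∃ a', g (some (Sum.inl a)) = some (Sum.inl a') := fun a => by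
    apply adj_none.1
    rw [← hg, g.map_rel_iff]
    exact adj_none.2 ⟨a, rfl⟩
  choose p hp using hpt
  have hinj : Function.Injective p := fun a a' e => Sum.inl.inj (Option.some.inj (g.injective (by rw [hp, hp, e])))
  let π : Equiv.Perm α := Equiv.ofBijective p ((Fintype.bijective_iff_injective_and_card p).2 ⟨hinj, rfl⟩)
  have hπ : ∀ a, π a = p a := fun a => rfl
  have hbl : ∀ b : B, ∃ b' : B, g (some (Sum.inr b)) = some (Sum.inr b') ∧ (b' : Finset α) = π • (b : Finset α) := by
    intro b
    rcases hb : g (some (Sum.inr b)) with _ | a | b'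
    · exact absurd (g.injective (hb.trans hg.symm)) (by simp)
    · obtain ⟨a₀, rfl⟩ := π.surjective a
      exact absurd (g.injective (hb.trans ((congrArg (fun t => some (Sum.inl t)) (hπ a₀)).trans (hp a₀).symm))) (by simp)
    · refine ⟨b', rfl, ?_⟩
      ext y
      obtain ⟨a, rfl⟩ := π.surjective y
      rw [show π a = π • a from rfl, Finset.smul_mem_smul_finset_iff, ← adj_point_block, ← adj_point_block,
        ← g.map_rel_iff (a := some (Sum.inl a)) (b := some (Sum.inr b)), hb, hp]
      rfl
  have hπB : π ∈ setSystemAut B := by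
    refine mem_stabilizer_iff.2 (Set.eq_of_subset_of_ncard_le ?_
      (le_of_eq (Set.ncard_image_of_injective _ (MulAction.injective _)).symm) (Set.toFinite _))
    rintro _ ⟨b, hb, rfl⟩
    obtain ⟨b', -, e⟩ := hbl ⟨b, hb⟩
    show π • b ∈ B
    exact e ▸ b'.2
  refine ⟨⟨π, hπB⟩, RelIso.ext fun x => ?_⟩
  rcases x with _ | a | b
  · exact hg.symm
  · exact (hp a).symm
  · obtain ⟨b', e1, e2⟩ := hbl b
    rw [e1]
    show some (Sum.inr _) = _
    congr 2
    exact Subtype.ext e2.symm

theorem points_trans (hB : IsSteinerSystem 3 6 B) (hα : Fintype.card α = 22) (a a' : α) :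
    ∃ π : setSystemAut B, π.1 a = a' := by
  have h3 := (aut22 hB hα).2.1
  have : IsMultiplyPretransitive (setSystemAut B) α 1 := by
    haveI := h3
    exact MulAction.isMultiplyPretransitive_of_le (n := 3) (by norm_num) (by rw [Nat.card_eq_fintype_card, hα]; norm_num)
  rw [MulAction.is_one_pretransitive_iff] at this
  exact this.exists_smul_eq a a'

theorem blocks_trans (hB : IsSteinerSystem 3 6 B) (hα : Fintype.card α = 22) (b c : B) :
    ∃ π : setSystemAut B, π.1 • (b : Finset α) = (c : Finset α) := by
  obtain ⟨s, hs, hs3⟩ := Finset.exists_subset_card_eq (s := (b : Finset α)) (n := 3) (by rw [hB.1 _ b.2]; norm_num)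
  obtain ⟨t, ht, ht3⟩ := Finset.exists_subset_card_eq (s := (c : Finset α)) (n := 3) (by rw [hB.1 _ c.2]; norm_num)
  let x : Fin 3 ↪ α := (Finset.equivFinOfCardEq hs3).symm.toEmbedding.trans (Function.Embedding.subtype _)
  let y : Fin 3 ↪ α := (Finset.equivFinOfCardEq ht3).symm.toEmbedding.trans (Function.Embedding.subtype _)
  haveI := (aut22 hB hα).2.1
  obtain ⟨π, hπ⟩ := exists_smul_eq (setSystemAut B) x y
  refine ⟨π, ?_⟩
  have hmem : π.1 • (b : Finset α) ∈ B := by
    have := Set.smul_mem_smul_set (a := π.1) b.2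
    rwa [mem_stabilizer_iff.1 π.2] at this
  refine (hB.2 t ht3).unique ⟨hmem, fun z hz => ?_⟩ ⟨c.2, ht⟩
  obtain ⟨i, hi⟩ := (Finset.equivFinOfCardEq ht3).symm.surjective ⟨z, hz⟩
  have h1 : π.1 (x i) = z := by
    have h2 : (π • x) i = y i := by rw [hπ]
    rw [show (y i : α) = z from congrArg Subtype.val hi] at h2
    exact h2
  rw [← h1]
  exact Finset.smul_mem_smul_finset (a := π.1) (hs ((Finset.equivFinOfCardEq hs3).symm i).2)

end CfsgLib.HSGraph
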