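import Cfsg.Agent.HSGraph.Check
import Cfsg.Agent.HSGraph.Stab

/-!
The concrete copy of the graph.
-/

set_option autoImplicit false
set_option maxRecDepth 100000

namespace CfsgLib.HSGraph

open Cfsg

/-- The mask of a block. -/
def mask (j : Fin 77) : ℕ := maskN j.val

/-- A block of the model. -/
def blkF (j : Fin 77) : Finset (Fin 22) := Finset.univ.filter fun a => (mask j).testBit a.val = true

theorem mem_blkF {j : Fin 77} {a : Fin 22} : a ∈ blkF j ↔ (mask j).testBit a.val = true := by simp [blkF]

theorem card_blkF (j : Fin 77) : (blkF j).card = 6 := by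
  have h := allLt_spec chk_card j.isLt
  rw [beq_iff_eq, List.countP_eq_length_filter] at h
  have e : (blkF j).card = ((List.range 22).filter fun a => (mask j).testBit a).toFinset.card := by
    refine Finset.card_bij (fun a _ => a.val) (fun a ha => ?_) (fun a _ b _ hab => Fin.ext hab) fun n hn => ?_
    · simpa [List.mem_filter, mem_blkF] using mem_blkF.1 ha
    · simp only [List.mem_toFinset, List.mem_filter, List.mem_range] at hn
      exact ⟨⟨n, hn.1⟩, mem_blkF.2 hn.2, rfl⟩
  rw [e, List.toFinset_card_of_nodup (List.nodup_range.filter _)]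
  exact h

/-- The blocks of the model. -/
def B0 : Set (Finset (Fin 22)) := Set.range blkF

/-- Every triple is in exactly one block. -/
theorem triples (a b : Fin 22) (hab : a < b) (c : Fin 22) (hbc : b < c) :
    ((List.finRange 77).filter fun j => (mask j).testBit a.val && (mask j).testBit b.val && (mask j).testBit c.val).length = 1 := by
  have h := allLt_spec (allLt_spec (allLt_spec chk_triples c.isLt) (show b.val < c.val from hbc)) (show a.val < b.val from hab)
  rw [beq_iff_eq, blkMasks_eq, ← List.map_coe_finRange_eq_range, List.map_map, List.countP_map] at h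
  rw [← List.countP_eq_length_filter, ← h]
  refine List.countP_congr fun j _ => ?_
  simp only [mask, Function.comp_apply, Bool.and_eq_true]
  tauto

theorem steiner0 : IsSteinerSystem 3 6 B0 := by
  refine ⟨by rintro _ ⟨j, rfl⟩; exact card_blkF j, fun s hs => ?_⟩
  let f := s.orderEmbOfFin hs
  have h := triples (f 0) (f 1) (f.strictMono (by decide)) (f 2) (f.strictMono (by decide))
  have hsub : ∀ j, s ⊆ blkF j ↔ j ∈ (List.finRange 77).filter (fun j =>
      (mask j).testBit (f 0).val && (mask j).testBit (f 1).val && (mask j).testBit (f 2).val) := by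
    intro j
    simp only [List.mem_filter, List.mem_finRange, true_and, Bool.and_eq_true, ← mem_blkF]
    constructor
    · exact fun hj => ⟨⟨hj (Finset.orderEmbOfFin_mem _ _ _), hj (Finset.orderEmbOfFin_mem _ _ _)⟩,
        hj (Finset.orderEmbOfFin_mem _ _ _)⟩
    · rintro ⟨⟨h0, h1⟩, h2⟩ z hz
      have hz' : z ∈ Set.range f := by rw [Finset.range_orderEmbOfFin]; exact hz
      obtain ⟨i, rfl⟩ := hz'
      fin_cases i
      exacts [h0, h1, h2]
  obtain ⟨j, hj⟩ := List.length_eq_one_iff.1 h
  refine ⟨blkF j, ⟨⟨j, rfl⟩, (hsub j).2 (by rw [hj]; exact List.mem_singleton.2 rfl)⟩, ?_⟩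
  rintro _ ⟨⟨k, rfl⟩, hk⟩
  have := (hsub k).1 hk
  rw [hj, List.mem_singleton] at this
  rw [this]

theorem mask_lt (j : Fin 77) : mask j < 2 ^ 22 :=
  Nat.lt_of_le_of_lt Nat.and_le_right (by norm_num)

theorem mask_injective : Function.Injective mask := by
  intro i j h
  by_contra hne
  have aux : ∀ {i j : Fin 77}, j < i → mask i = mask j → False := fun {i j} hlt he => by
    have := allLt_spec (allLt_spec chk_distinct i.isLt) (show j.val < i.val from hlt)
    simp [mask] at he this
    exact this he
  rcases lt_or_gt_of_ne hne with hlt | hlt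
  · exact aux hlt h.symm
  · exact aux hlt h

theorem blkF_injective : Function.Injective blkF := by
  intro i j h
  refine mask_injective (Nat.eq_of_testBit_eq fun k => ?_)
  by_cases hk : k < 22
  · exact Bool.eq_iff_iff.2 (by rw [← mem_blkF (a := ⟨k, hk⟩), ← mem_blkF (a := ⟨k, hk⟩), h])
  · rw [Nat.testBit_lt_two_pow ((mask_lt i).trans_le (Nat.pow_le_pow_right (by norm_num) (by omega))),
      Nat.testBit_lt_two_pow ((mask_lt j).trans_le (Nat.pow_le_pow_right (by norm_num) (by omega)))]

theorem disjoint_blkF (i j : Fin 77) : Disjoint (blkF i) (blkF j) ↔ mask i &&& mask j = 0 := by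
  rw [Finset.disjoint_left]
  constructor
  · intro h
    refine Nat.zero_of_testBit_eq_false fun k => ?_
    rw [Nat.testBit_and]
    by_cases hk : k < 22
    · by_contra hc
      simp only [Bool.not_eq_false, Bool.and_eq_true] at hc
      exact h (mem_blkF (a := ⟨k, hk⟩).2 hc.1) (mem_blkF.2 hc.2)
    · rw [Nat.testBit_lt_two_pow ((mask_lt i).trans_le (Nat.pow_le_pow_right (by norm_num) (by omega))),
        Bool.false_and]
  · intro h a ha hb
    rw [mem_blkF] at ha hb
    have := congrArg (fun n => Nat.testBit n a.val) h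
    simp [Nat.testBit_and, ha, hb] at this

/-- The position of a vertex. -/
def code : Option (Fin 22 ⊕ Fin 77) → Fin 100
  | none => 0
  | some (Sum.inl a) => ⟨1 + a.val, by omega⟩
  | some (Sum.inr j) => ⟨23 + j.val, by omega⟩

/-- The vertex at a position. -/
def decode (k : Fin 100) : Option (Fin 22 ⊕ Fin 77) :=
  if h0 : k.val = 0 then none
  else if h : k.val < 23 then some (Sum.inl ⟨k.val - 1, by omega⟩)
  else some (Sum.inr ⟨k.val - 23, by omega⟩)

theorem decode_code : ∀ x, decode (code x) = x := by decide +kernel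

theorem code_decode : ∀ k, code (decode k) = k := by decide +kernel

/-- The vertices of the model. -/
noncomputable def vEquiv : Option (Fin 22 ⊕ B0) ≃ Fin 100 :=
  ((Equiv.optionCongr (Equiv.sumCongr (Equiv.refl _) (Equiv.ofInjective blkF blkF_injective))).symm).trans
    ⟨code, decode, decode_code, code_decode⟩

theorem vEquiv_none : vEquiv none = 0 := rfl

theorem vEquiv_point (a : Fin 22) : vEquiv (some (Sum.inl a)) = code (some (Sum.inl a)) := rfl

theorem vEquiv_block (j : Fin 77) : vEquiv (some (Sum.inr ⟨blkF j, j, rfl⟩)) = code (some (Sum.inr j)) := by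
  have : (Equiv.ofInjective blkF blkF_injective).symm ⟨blkF j, j, rfl⟩ = j :=
    (Equiv.ofInjective blkF blkF_injective).symm_apply_apply j
  exact congrArg (fun t => code (some (Sum.inr t))) this

/-- Adjacency in the model. -/
def adjT (u v : Fin 100) : Bool := adjN u.val v.val

theorem adjT_symm (u v : Fin 100) : adjT u v = adjT v u := by
  rcases lt_trichotomy u v with h | h | h
  · exact (beq_iff_eq.1 (allLt_spec (allLt_spec chk_symm v.isLt) (show u.val < v.val from h))).symm
  · rw [h]
  · exact beq_iff_eq.1 (allLt_spec (allLt_spec chk_symm u.isLt) (show v.val < u.val from h))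

theorem adjT_none : adjT 0 0 = false ∧ (∀ a, adjT 0 (code (some (Sum.inl a))) = true) ∧
    ∀ j, adjT 0 (code (some (Sum.inr j))) = false := by
  have h := chk_none
  simp only [Bool.and_eq_true, Bool.not_eq_true'] at h
  refine ⟨h.1.1, fun a => allLt_spec h.1.2 a.isLt, fun j => ?_⟩
  have := allLt_spec h.2 j.isLt
  simpa [adjT, code] using this

theorem adjT_points (a b : Fin 22) : adjT (code (some (Sum.inl a))) (code (some (Sum.inl b))) = false := by
  have := allLt_spec (allLt_spec chk_points a.isLt) b.isLt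
  simpa [adjT, code] using this

theorem adjT_point_block (a : Fin 22) (j : Fin 77) :
    adjT (code (some (Sum.inl a))) (code (some (Sum.inr j))) = (mask j).testBit a.val :=
  beq_iff_eq.1 (allLt_spec (allLt_spec chk_point_block a.isLt) j.isLt)

theorem adjT_blocks (i j : Fin 77) :
    adjT (code (some (Sum.inr i))) (code (some (Sum.inr j))) = decide (mask i &&& mask j = 0) := by
  have := allLt_spec (allLt_spec chk_blocks i.isLt) j.isLt
  rw [beq_iff_eq] at this
  exact this.trans rfl

theorem adj_iff (x y : Option (Fin 22 ⊕ B0)) : (pointBlockGraph B0).Adj x y ↔ adjT (vEquiv x) (vEquiv y) = true := by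
  obtain ⟨h00, h0a, h0b⟩ := adjT_none
  rcases x with _ | a | ⟨_, i, rfl⟩
  · rcases y with _ | b | ⟨_, j, rfl⟩
    · simp [vEquiv_none, h00]
    · simp [vEquiv_none, vEquiv_point, h0a, adj_none]
    · simp [vEquiv_none, vEquiv_block, h0b, adj_none]
  · rcases y with _ | b | ⟨_, j, rfl⟩
    · rw [SimpleGraph.adj_comm, adjT_symm, vEquiv_none, vEquiv_point, h0a, adj_none]; simp
    · rw [vEquiv_point, vEquiv_point, adjT_points]
      simp [pointBlockGraph, SimpleGraph.fromRel_adj, pointBlockRel]
    · rw [vEquiv_point, vEquiv_block, adjT_point_block, adj_point_block, mem_blkF]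
  · rcases y with _ | b | ⟨_, j, rfl⟩
    · rw [SimpleGraph.adj_comm, adjT_symm, vEquiv_none, vEquiv_block, h0b, adj_none]; simp
    · rw [SimpleGraph.adj_comm, adjT_symm, vEquiv_point, vEquiv_block, adjT_point_block, adj_point_block, mem_blkF]
    · rw [vEquiv_block, vEquiv_block, adjT_blocks, adj_block_block steiner0, disjoint_blkF, decide_eq_true_iff]

/-- A permutation of the model from a packed table and its inverse. -/
def tabPerm (t t' : ℕ)
    (h : (allLt 100 fun k => decide (tabN t k < 100) && decide (tabN t' k < 100) &&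
      tabN t' (tabN t k) == k && tabN t (tabN t' k) == k) = true) : Equiv.Perm (Fin 100) :=
  have hs : ∀ k : Fin 100, tabN t k.val < 100 ∧ tabN t' k.val < 100 ∧
      tabN t' (tabN t k.val) = k.val ∧ tabN t (tabN t' k.val) = k.val := fun k => by
    have := allLt_spec h k.isLt
    simp only [Bool.and_eq_true, decide_eq_true_eq, beq_iff_eq] at this
    exact ⟨this.1.1.1, this.1.1.2, this.1.2, this.2⟩
  ⟨fun k => ⟨tabN t k.val, (hs k).1⟩, fun k => ⟨tabN t' k.val, (hs k).2.1⟩,
    fun k => Fin.ext (hs k).2.2.1, fun k => Fin.ext (hs k).2.2.2⟩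

/-- The automorphism moving the extra vertex. -/
def gPerm : Equiv.Perm (Fin 100) := tabPerm gTab gInv chk_g_inv

/-- The odd automorphism. -/
def hPerm : Equiv.Perm (Fin 100) := tabPerm hTab hInv chk_h_inv

theorem gPerm_adj (u v : Fin 100) : adjT (gPerm u) (gPerm v) = adjT u v :=
  beq_iff_eq.1 (allLt_spec (allLt_spec chk_g_adj u.isLt) v.isLt)

theorem hPerm_adj (u v : Fin 100) : adjT (hPerm u) (hPerm v) = adjT u v :=
  beq_iff_eq.1 (allLt_spec (allLt_spec chk_h_adj u.isLt) v.isLt)

/-- A transposition of the model. -/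
def swapF (p : ℕ × ℕ) : Equiv.Perm (Fin 100) := Equiv.swap (Fin.ofNat 100 p.1) (Fin.ofNat 100 p.2)

theorem swapF_val {p : ℕ × ℕ} (h1 : p.1 < 100) (h2 : p.2 < 100) (k : Fin 100) :
    (swapF p k).val = swapN p k.val := by
  have e1 : (Fin.ofNat 100 p.1).val = p.1 := Nat.mod_eq_of_lt h1
  have e2 : (Fin.ofNat 100 p.2).val = p.2 := Nat.mod_eq_of_lt h2
  simp only [swapF, swapN, Equiv.swap_apply_def, Fin.ext_iff, e1, e2]
  split_ifs <;> first | rfl | exact e1 | exact e2

theorem prod_swapF : ∀ (L : List (ℕ × ℕ)), (∀ p ∈ L, p.1 < 100 ∧ p.2 < 100) → ∀ k : Fin 100,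
    ((L.map swapF).prod k).val = L.foldr swapN k.val
  | [], _, k => rfl
  | p :: L, h, k => by
    rw [List.map_cons, List.prod_cons, Equiv.Perm.mul_apply, List.foldr_cons,
      swapF_val (h p List.mem_cons_self).1 (h p List.mem_cons_self).2,
      prod_swapF L (fun q hq => h q (List.mem_cons_of_mem p hq))]

theorem swaps_spec : ∀ p ∈ hSwaps, (p.1 < 100 ∧ p.2 < 100) ∧ p.1 ≠ p.2 := fun p hp => by
  have := List.all_eq_true.1 chk_swaps.1 p hp
  simp only [Bool.and_eq_true, decide_eq_true_eq, Bool.not_eq_true', beq_eq_false_iff_ne] at this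
  exact this

theorem hPerm_eq : hPerm = (hSwaps.map swapF).prod := by
  refine Equiv.ext fun k => Fin.ext ?_
  rw [prod_swapF hSwaps (fun p hp => (swaps_spec p hp).1) k, beq_iff_eq.1 (allLt_spec chk_h_swaps k.isLt)]
  rfl

theorem sign_prod_swapF : ∀ (L : List (ℕ × ℕ)), (∀ p ∈ L, (p.1 < 100 ∧ p.2 < 100) ∧ p.1 ≠ p.2) →
    Equiv.Perm.sign (L.map swapF).prod = (-1 : ℤˣ) ^ L.length
  | [], _ => Equiv.Perm.sign_one
  | p :: L, h => by
    obtain ⟨⟨h1, h2⟩, h3⟩ := h p List.mem_cons_self
    rw [List.map_cons, List.prod_cons, map_mul,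
      sign_prod_swapF L (fun q hq => h q (List.mem_cons_of_mem p hq)), List.length_cons, pow_succ']
    congr 1
    refine Equiv.Perm.sign_swap fun e => h3 ?_
    have e' : p.1 % 100 = p.2 % 100 := congrArg Fin.val e
    rwa [Nat.mod_eq_of_lt h1, Nat.mod_eq_of_lt h2] at e'

theorem sign_hPerm : Equiv.Perm.sign hPerm = -1 :=
  ((congrArg (fun σ => Equiv.Perm.sign σ) hPerm_eq).trans (sign_prod_swapF hSwaps swaps_spec)).trans
    ((congrArg (fun n => (-1 : ℤˣ) ^ n) chk_swaps.2).trans (Odd.neg_one_pow ⟨40, by norm_num⟩))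

/-- Transport of a permutation of the model to an automorphism. -/
noncomputable def mkAut (σ : Equiv.Perm (Fin 100)) (h : ∀ u v, adjT (σ u) (σ v) = adjT u v) : Aut B0 :=
  ⟨(vEquiv.trans σ).trans vEquiv.symm, fun {x y} => by
    rw [adj_iff, adj_iff]
    simp [h]⟩

theorem mkAut_perm (σ : Equiv.Perm (Fin 100)) (h : ∀ u v, adjT (σ u) (σ v) = adjT u v) :
    toPerm B0 (mkAut σ h) = vEquiv.symm.permCongr σ := by
  refine Equiv.ext fun x => ?_
  rfl

theorem mkAut_g_none : mkAut gPerm gPerm_adj none = some (Sum.inl 0) := by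
  show vEquiv.symm (gPerm (vEquiv none)) = _
  rw [Equiv.symm_apply_eq, vEquiv_point, vEquiv_none]
  exact Fin.ext chk_moves.1

theorem mkAut_h_none : mkAut hPerm hPerm_adj none = none := by
  show vEquiv.symm (hPerm (vEquiv none)) = _
  rw [Equiv.symm_apply_eq, vEquiv_none]
  exact Fin.ext chk_moves.2

end CfsgLib.HSGraph
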