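import Cfsg.Agent.HSGraph.OutPerm
import Cfsg.Agent.HSGraph.LeechModel
import Cfsg.Prelude.Def_KGroupFacts

/-!
The outer automorphism group of the Higman-Sims group has order two.
-/

set_option autoImplicit false

namespace CfsgLib.HSGraph.OutCert

open Cfsg CfsgLib.HSGraph Equiv MulAction
open scoped Pointwise

/-- The generators inside the group. -/
def eA : gEven := ⟨gA, A_mem⟩
/-- The second element. -/
def eY : gEven := ⟨gY, Y_mem⟩
/-- The third element. -/
def eZ : gEven := ⟨gZ, Z_mem⟩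

theorem powN_pk (t : ℕ) : ∀ m, ∃ l : List ℕ, l.length = 100 ∧ (∀ x ∈ l, x < 128) ∧ powN t m = pk l
  | 0 => ⟨List.range 100, by simp, fun x hx => by have := List.mem_range.1 hx; omega, rfl⟩
  | m + 1 => ⟨_, by simp, fun x hx => by
      obtain ⟨i, -, rfl⟩ := List.mem_map.1 hx
      rw [tabN_eq]; exact Nat.mod_lt _ (by norm_num), rfl⟩

theorem pk_eq_id (n : ℕ) (h : ∀ k : Fin 100, tabN n k.val = k.val)
    (hn : ∃ l : List ℕ, l.length = 100 ∧ (∀ x ∈ l, x < 128) ∧ n = pk l) : n = idN := by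
  obtain ⟨l, hl, hb, rfl⟩ := hn
  rw [idN]
  congr 1
  refine List.ext_getElem (by simp [hl]) fun i h1 h2 => ?_
  have := h ⟨i, by omega⟩
  rw [tabN_pk l hb i h1, List.getD_eq_getElem _ _ h1] at this
  simpa using this

theorem eA_pow : eA ^ 11 = 1 := Subtype.ext A_pow

theorem eY_eA : eY * eA = eA ^ 3 * eY := Subtype.ext YA

theorem orderOf_eA : orderOf eA = 11 :=
  haveI : Fact (Nat.Prime 11) := ⟨by norm_num⟩
  orderOf_eq_prime eA_pow fun h => A_ne (congrArg Subtype.val h)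

theorem eA_pow_eq {i j : ℕ} (h : i % 11 = j % 11) : eA ^ i = eA ^ j :=
  pow_eq_pow_iff_modEq.2 (by rw [orderOf_eA]; exact h)

theorem eY_eA_pow : ∀ n : ℕ, eY * eA ^ n = eA ^ (3 * n) * eY
  | 0 => by simp
  | n + 1 => by
    rw [pow_succ, ← mul_assoc, eY_eA_pow n, mul_assoc, eY_eA, ← mul_assoc, ← pow_add, Nat.mul_succ]

theorem inn_map {A B : Type*} [Group A] [Group B] (e : A ≃* B) :
    (Cfsg.Inn A).map (MulAut.congr e).toMonoidHom = Cfsg.Inn B := by
  refine le_antisymm ?_ ?_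
  · rintro _ ⟨_, ⟨x, rfl⟩, rfl⟩
    exact ⟨e x, MulEquiv.ext fun y => by simp [MulAut.congr, MulAut.conj_apply]⟩
  · rintro _ ⟨y, rfl⟩
    exact ⟨_, ⟨e.symm y, rfl⟩, MulEquiv.ext fun z => by simp [MulAut.congr, MulAut.conj_apply]⟩

theorem knownA_rep : ∀ k ∈ knownA, ∃ τ ∈ gAll, Rep k τ := fun k hk => by
  obtain ⟨i, -, rfl⟩ := List.mem_map.1 hk
  exact ⟨gA ^ i, pow_mem A_mem.1 i, rep_pow rA i⟩

theorem knownY_rep : ∀ k ∈ knownY, ∃ τ ∈ gAll, Rep k τ := fun k hk => by
  simp only [knownY, List.mem_flatMap, List.mem_map] at hk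
  obtain ⟨l, -, i, -, j, -, rfl⟩ := hk
  exact ⟨gY ^ i * gZ ^ j * gS ^ l, mul_mem (mul_mem (pow_mem Y_mem.1 i) (pow_mem Z_mem.1 j)) (pow_mem S_mem l),
    rep_mul (rep_mul (rep_pow rY i) (rep_pow rZ j)) (rep_pow rS l)⟩

theorem cent_A {c : Perm (Fin 100)} (hc : c ∈ gAll) (h : Commute c gA) : ∃ i : ℕ, c = gA ^ i := by
  obtain ⟨k, hk, hr⟩ := centralizer_known rA baseA knownA chk_base.1 chk_enumA chk_sep.1 chk_known.1 knownA_rep hc h
  obtain ⟨i, -, rfl⟩ := List.mem_map.1 hk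
  exact ⟨i, rep_ext hr (rep_pow rA i) rfl⟩

theorem gen_ext {f f' : gEven →* gEven} (h1 : f eA = f' eA) (h2 : f eZ = f' eZ) : f = f' := by
  have htop : Subgroup.closure ({eA, eZ} : Set gEven) = ⊤ := by
    refine Subgroup.map_injective gEven.subtype_injective ?_
    rw [MonoidHom.map_closure, Set.image_pair, ← MonoidHom.range_eq_map, Subgroup.range_subtype]
    exact closure_AZ
  refine MonoidHom.eq_of_eqOn_dense htop ?_
  rintro x (rfl | rfl) <;> assumption

/-- Evaluation in the subgroup. -/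
theorem rep_evG {p q : gEven} {s t : ℕ} (hs : Rep s p.1) (ht : Rep t q.1) (w : List Bool) (m : ℕ) :
    Rep (powN (evN s t w) m) ((evG p q w ^ m : gEven) : Perm (Fin 100)) := by
  have e : ((evG p q w : gEven) : Perm (Fin 100)) = evG p.1 q.1 w := map_evG gEven.subtype p q w
  rw [SubmonoidClass.coe_pow, e]
  exact rep_pow (rep_ev hs ht w) m

/-- A normalised automorphism is determined by the exponent. -/
theorem survivor {e sv : ℕ} {V : List (Option (List Bool × ℕ))} (hV : verdOk e sv V = true) {ψ : MulAut gEven}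
    (hA : ψ eA = eA ^ e) (hY : ψ eY = eY) : Rep (knownY.getD sv 0) (ψ eZ : Perm (Fin 100)) := by
  have hcomm : Commute ((ψ eZ : gEven) : Perm (Fin 100)) gY := by
    have hzy : mulN pZ pY = mulN pY pZ := by decide +kernel
    have h : eZ * eY = eY * eZ := Subtype.ext (rep_ext (rep_mul rZ rY) (rep_mul rY rZ) hzy)
    have h2 := congrArg ψ h
    rw [map_mul, map_mul, hY] at h2
    exact congrArg Subtype.val h2
  obtain ⟨k, hk, hr⟩ := centralizer_known rY baseY knownY chk_base.2 chk_enumY chk_sep.2 chk_known.2 knownY_rep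
    (ψ eZ).2.1 hcomm
  obtain ⟨i, hi, rfl⟩ := List.getElem_of_mem hk
  simp only [verdOk, Bool.and_eq_true, List.all_eq_true, List.mem_range, beq_iff_eq] at hV
  have hv := hV.2 i hi
  rw [← List.getD_eq_getElem knownY 0 hi] at hr
  generalize V.getD i none = v at hv
  cases v with
  | none =>
    simp only [beq_iff_eq] at hv
    rw [← hv]
    exact hr
  | some wm =>
    exfalso
    obtain ⟨w, m⟩ := wm
    simp only [Bool.and_eq_true, beq_iff_eq, bne_iff_ne] at hv
    have h1 : evG eA eZ w ^ m = 1 := Subtype.ext (rep_ext (rep_evG (p := eA) (q := eZ) rA rZ w m) rep_id hv.1)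
    have h2 := congrArg ψ h1
    have hev : ψ (evG eA eZ w) = evG (eA ^ e) (ψ eZ) w := by
      have := map_evG ψ.toMonoidHom eA eZ w
      simp only [MulEquiv.coe_toMonoidHom, hA] at this
      exact this
    rw [map_one, map_pow, hev] at h2
    have hAe : Rep (powN pA e) ((eA ^ e : gEven) : Perm (Fin 100)) := rep_pow rA e
    have hrep := rep_evG (p := eA ^ e) (q := ψ eZ) hAe hr w m
    rw [h2] at hrep
    exact hv.2 (pk_eq_id _ (fun k => (hrep k).symm) (powN_pk _ _))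

theorem normal_form (φ : MulAut gEven) : ∃ g : gEven, ∃ e : ℕ, (e = 1 ∨ e = 10) ∧
    (MulAut.conj g * φ) eA = eA ^ e ∧ (MulAut.conj g * φ) eY = eY := by
  haveI : Fact (Nat.Prime 11) := ⟨by norm_num⟩
  have hfac : (Nat.card gEven).factorization 11 = 1 := by
    rw [card_gEven, show (44352000 : ℕ) = 11 * 4032000 by norm_num,
      Nat.factorization_mul (by norm_num) (by norm_num), Finsupp.add_apply,
      Nat.Prime.factorization_self (by norm_num), Nat.factorization_eq_zero_of_not_dvd (by norm_num)]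
  have hsyl : ∀ x : gEven, orderOf x = 11 →
      Nat.card (Subgroup.zpowers x) = 11 ^ (Nat.card gEven).factorization 11 := fun x hx => by
    rw [Nat.card_zpowers, hx, hfac, pow_one]
  have hoA' : orderOf (φ eA) = 11 := by rw [MulEquiv.orderOf_eq]; exact orderOf_eA
  obtain ⟨g1, hg1⟩ := MulAction.exists_smul_eq gEven
    (Sylow.ofCard (Subgroup.zpowers eA) (hsyl eA orderOf_eA)) (Sylow.ofCard (Subgroup.zpowers (φ eA)) (hsyl _ hoA'))
  have hin : g1⁻¹ * φ eA * g1 ∈ Subgroup.zpowers eA := by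
    have e : Subgroup.zpowers (φ eA) = MulAut.conj g1 • Subgroup.zpowers eA :=
      (congrArg Sylow.toSubgroup hg1).symm
    have h2 : φ eA ∈ MulAut.conj g1 • Subgroup.zpowers eA := e ▸ Subgroup.mem_zpowers _
    rw [Subgroup.mem_pointwise_smul_iff_inv_smul_mem, MulAut.smul_def, MulAut.conj_inv_apply] at h2
    exact h2
  rw [mem_zpowers_iff_mem_range_orderOf, Finset.mem_image] at hin
  obtain ⟨j, hj, hje⟩ := hin
  rw [Finset.mem_range, orderOf_eA] at hj
  have hj0 : j ≠ 0 := by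
    rintro rfl
    rw [pow_zero, eq_comm] at hje
    have h2 : φ eA = 1 := by
      have := congrArg (fun x => g1 * x * g1⁻¹) hje
      simpa [mul_assoc] using this
    rw [h2, orderOf_one] at hoA'
    omega
  have hc := allLt_spec chk_conj (show j - 1 < 10 by omega)
  simp only [Bool.and_eq_true, Bool.or_eq_true, beq_iff_eq, decide_eq_true_eq,
    Nat.sub_add_cancel (Nat.pos_of_ne_zero hj0)] at hc
  obtain ⟨⟨-, he⟩, heq⟩ := hc
  generalize hm : (conjExp.getD (j - 1) (0, 0)).1 = m at heq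
  generalize hee : (conjExp.getD (j - 1) (0, 0)).2 = e at heq he
  have hYAj : eY ^ m * eA ^ j = eA ^ e * eY ^ m := Subtype.ext
    (rep_ext (rep_mul (rep_pow rY m) (rep_pow rA j)) (rep_mul (rep_pow rA e) (rep_pow rY m)) heq)
  set g2 : gEven := eY ^ m * g1⁻¹ with hg2
  set ψ := MulAut.conj g2 * φ with hψ
  have hψA : ψ eA = eA ^ e := by
    show g2 * φ eA * g2⁻¹ = _
    rw [hg2, mul_inv_rev, inv_inv, show eY ^ m * g1⁻¹ * φ eA * (g1 * (eY ^ m)⁻¹) =
      eY ^ m * (g1⁻¹ * φ eA * g1) * (eY ^ m)⁻¹ by group, ← hje, hYAj, mul_inv_cancel_right]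
  -- the image of the normalising element
  have hc1 : Commute (eY⁻¹ * ψ eY) (eA ^ e) := by
    have h := congrArg ψ eY_eA
    rw [map_mul, map_mul, map_pow, hψA, ← pow_mul] at h
    show eY⁻¹ * ψ eY * eA ^ e = eA ^ e * (eY⁻¹ * ψ eY)
    have k : eY⁻¹ * eA ^ (3 * e) = eA ^ e * eY⁻¹ := by
      rw [inv_mul_eq_iff_eq_mul, ← mul_assoc, eY_eA_pow, mul_inv_cancel_right]
    rw [mul_assoc, h, eA_pow_eq (show e * 3 % 11 = 3 * e % 11 by rw [Nat.mul_comm]), ← mul_assoc, ← mul_assoc, k]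
  have hc2 : Commute (eY⁻¹ * ψ eY) eA := by
    have := hc1.pow_right e
    rwa [← pow_mul, eA_pow_eq (show e * e % 11 = 1 % 11 by rcases he with rfl | rfl <;> rfl), pow_one] at this
  obtain ⟨i, hi⟩ := cent_A (eY⁻¹ * ψ eY).2.1 (congrArg Subtype.val hc2)
  have hψY : ψ eY = eY * eA ^ i := by
    have : eY⁻¹ * ψ eY = eA ^ i := Subtype.ext hi
    rw [← this, mul_inv_cancel_left]
  refine ⟨eA ^ (7 * i) * g2, e, he, ?_, ?_⟩
  · rw [map_mul, mul_assoc, ← hψ, MulAut.mul_apply, hψA, MulAut.conj_apply, ← pow_add, add_comm, pow_add,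
      mul_inv_cancel_right]
  · rw [map_mul, mul_assoc, ← hψ, MulAut.mul_apply, hψY, MulAut.conj_apply, mul_inv_eq_iff_eq_mul, eY_eA_pow,
      eY_eA_pow, ← mul_assoc, ← pow_add]
    exact congrArg (· * eY) (eA_pow_eq (by omega))

theorem mem_inn_of_same {φ φ' : MulAut gEven} {g g' : gEven} {e : ℕ} (he : e = 1 ∨ e = 10)
    (h1 : (MulAut.conj g * φ) eA = eA ^ e) (h2 : (MulAut.conj g * φ) eY = eY)
    (h1' : (MulAut.conj g' * φ') eA = eA ^ e) (h2' : (MulAut.conj g' * φ') eY = eY) :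
    φ⁻¹ * φ' ∈ Cfsg.Inn gEven := by
  obtain ⟨sv, V, hV⟩ : ∃ sv V, verdOk e sv V = true := by
    rcases he with rfl | rfl
    exacts [⟨_, _, chk_verdOne⟩, ⟨_, _, chk_verdTen⟩]
  have heq : MulAut.conj g * φ = MulAut.conj g' * φ' := by
    refine MulEquiv.toMonoidHom_injective (gen_ext (h1.trans h1'.symm) (Subtype.ext ?_))
    exact rep_ext (survivor hV h1 h2) (survivor hV h1' h2') rfl
  refine ⟨φ.symm (g'⁻¹ * g), ?_⟩
  have e2 : φ' = MulAut.conj (g'⁻¹ * g) * φ := by
    rw [map_mul, map_inv, mul_assoc, heq, inv_mul_cancel_left]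
  rw [e2]
  refine MulEquiv.ext fun x => ?_
  show φ.symm (g'⁻¹ * g) * x * (φ.symm (g'⁻¹ * g))⁻¹ = φ.symm (g'⁻¹ * g * φ x * (g'⁻¹ * g)⁻¹)
  simp [map_mul, map_inv]

theorem card_out : Nat.card (Cfsg.Out gEven) = 2 := by
  -- conjugation by the odd automorphism
  have hH : hPerm ∈ gAll := hPerm_adj
  have hmap : gEven.map (MulAut.conj hPerm).toMonoidHom = gEven := by
    refine Subgroup.eq_of_le_of_card_ge ?_ (le_of_eq
      (Nat.card_congr (gEven.equivMapOfInjective _ (MulAut.conj hPerm).injective).toEquiv))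
    rintro _ ⟨x, hx, rfl⟩
    exact Subgroup.mem_inf.2 ⟨mul_mem (mul_mem hH hx.1) (inv_mem hH), by
      show Perm.sign (hPerm * x * hPerm⁻¹) = 1
      rw [map_mul, map_mul, map_inv, show Perm.sign x = 1 from hx.2, mul_one, mul_inv_cancel]⟩
  let θ : MulAut gEven :=
    (gEven.equivMapOfInjective _ (MulAut.conj hPerm).injective).trans (MulEquiv.subgroupCongr hmap)
  have hθ : θ ∉ Cfsg.Inn gEven := by
    rintro ⟨g, hg⟩
    have h : ((g : Perm (Fin 100)) * gA * (g : Perm (Fin 100))⁻¹) = hPerm * gA * hPerm⁻¹ :=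
      congrArg Subtype.val (DFunLike.congr_fun hg eA)
    have hc : Commute ((g : Perm (Fin 100))⁻¹ * hPerm) gA := by
      show (g : Perm (Fin 100))⁻¹ * hPerm * gA = gA * ((g : Perm (Fin 100))⁻¹ * hPerm)
      calc (g : Perm (Fin 100))⁻¹ * hPerm * gA = (g : Perm (Fin 100))⁻¹ * (hPerm * gA * hPerm⁻¹) * hPerm := by group
        _ = _ := by rw [← h]; group
    obtain ⟨i, hi⟩ := cent_A (mul_mem (inv_mem g.2.1) hH) hc
    have hsA : Perm.sign gA = 1 := A_mem.2
    have := congrArg Perm.sign hi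
    rw [map_mul, map_inv, sign_hPerm, show Perm.sign (g : Perm (Fin 100)) = 1 from g.2.2, map_pow, hsA, one_pow] at this
    simp at this
  refine Nat.card_eq_two_iff.2 ⟨1, QuotientGroup.mk θ, fun h => hθ ((QuotientGroup.eq_one_iff _).1 h.symm), ?_⟩
  refine Set.eq_univ_of_forall fun x => ?_
  obtain ⟨φ, rfl⟩ := QuotientGroup.mk_surjective x
  obtain ⟨g, e, he, h1, h2⟩ := normal_form φ
  obtain ⟨g0, e0, he0, a1, a2⟩ := normal_form (1 : MulAut gEven)
  obtain ⟨g1, e1, he1, b1, b2⟩ := normal_form θ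
  by_cases hcase : e = e0
  · subst hcase
    have := mem_inn_of_same he a1 a2 h1 h2
    rw [inv_one, one_mul] at this
    exact Or.inl ((QuotientGroup.eq_one_iff _).2 this)
  · have hne : e1 ≠ e0 := fun h => by
      subst h
      have := mem_inn_of_same he1 a1 a2 b1 b2
      rw [inv_one, one_mul] at this
      exact hθ this
    have hee : e = e1 := by omega
    subst hee
    exact Or.inr (QuotientGroup.eq.2 (mem_inn_of_same he h1 h2 b1 b2))

theorem card_out_HS : Nat.card (Cfsg.Out ↥Spor.HS) = 2 := by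
  obtain ⟨e1⟩ := gEven_iso
  obtain ⟨e2⟩ := isoHS_model
  rw [← card_out]
  exact (Nat.card_congr (QuotientGroup.congr (Cfsg.Inn gEven) (Cfsg.Inn ↥Spor.HS) (MulAut.congr (e1.trans e2))
    (inn_map (e1.trans e2))).toEquiv).symm

end CfsgLib.HSGraph.OutCert
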