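import Cfsg.Agent.HSGraph.Check
import Cfsg.Agent.HSGraph.OutData

/-!
Kernel-checked facts on packed permutations, for the automorphisms of the Higman-Sims group.
-/

set_option autoImplicit false
set_option maxRecDepth 100000

namespace CfsgLib.HSGraph.OutCert

open CfsgLib.HSGraph

/-- Packing in fields of 7 bits. -/
def pk : List ℕ → ℕ
  | [] => 0
  | x :: r => x + 128 * pk r

/-- The identity. -/
def idN : ℕ := pk (List.range 100)

/-- Product: first `u`, then `t`. -/
def mulN (t u : ℕ) : ℕ := pk ((List.range 100).map fun k => tabN t (tabN u k))

/-- Power. -/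
def powN (t : ℕ) : ℕ → ℕ
  | 0 => idN
  | n + 1 => mulN t (powN t n)

/-- Value of a word. -/
def evN (A B : ℕ) : List Bool → ℕ
  | [] => idN
  | x :: r => mulN (bif x then B else A) (evN A B r)

/-- Image under a power. -/
def itN (g : ℕ) : ℕ → ℕ → ℕ
  | 0, u => u
  | n + 1, u => tabN g (itN g n u)

/-- Adjacency is preserved. -/
def autOk (t : ℕ) : Bool := allLt 100 fun u => allLt 100 fun v => adjN (tabN t u) (tabN t v) == adjN u v

/-- `t'` is inverse to `t`. -/
def invOk (t t' : ℕ) : Bool := allLt 100 fun k => decide (tabN t k < 100) && decide (tabN t' k < 100) &&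
  tabN t' (tabN t k) == k && tabN t (tabN t' k) == k

/-- A partial assignment can be extended by `r ↦ t`. -/
def okT (g p r t : ℕ) (S pre : List ℕ) : Bool :=
  ((tabN g r == r) == (tabN g t == t)) && ((r :: S).zip (t :: pre)).all fun uv => (List.range p).all fun i =>
    (adjN (itN g i uv.1) r == adjN (itN g i uv.2) t) && ((itN g i uv.1 == r) == (itN g i uv.2 == t))

/-- All consistent images of a list of points under the centraliser. -/
def enumT (g p : ℕ) : List ℕ → List (List ℕ)
  | [] => [[]]
  | r :: S => (enumT g p S).flatMap fun pre =>
      ((List.range 100).filter fun t => okT g p r t S pre).map (· :: pre)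

/-- The cycles through `S` separate the points. -/
def sepOk (g p : ℕ) (S : List ℕ) : Bool :=
  allLt 100 fun v => allLt v fun w => (S.flatMap fun r => (List.range p).map fun i => itN g i r).any fun u =>
    adjN u v != adjN u w || (u == v) != (u == w)

/-- The powers of the element of order 11. -/
def knownA : List ℕ := (List.range 11).map (powN pA)

/-- The elements commuting with the element of order 5. -/
def knownY : List ℕ := (List.range 2).flatMap fun k => (List.range 5).flatMap fun i => (List.range 5).map fun j =>
  mulN (mulN (powN pY i) (powN pZ j)) (powN pS k)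

/-- The candidates are as listed, and all but the survivor are excluded. -/
def verdOk (e sv : ℕ) (V : List (Option (List Bool × ℕ))) : Bool :=
  V.length == knownY.length && (List.range knownY.length).all fun i =>
    match V.getD i none with
    | none => i == sv
    | some (w, m) => powN (evN pA pZ w) m == idN && powN (evN (powN pA e) (knownY.getD i 0) w) m != idN

theorem chk_inv : invOk pA (powN pA 10) = true ∧ invOk pY (powN pY 4) = true ∧ invOk pZ (powN pZ 4) = true ∧
    invOk pS pS = true := by decide +kernel

theorem chk_aut : autOk pA = true ∧ autOk pY = true ∧ autOk pZ = true ∧ autOk pS = true := by decide +kernel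

theorem chk_ords : powN pA 11 = idN ∧ pA ≠ idN ∧ powN pY 5 = idN ∧ powN pZ 5 = idN ∧
    mulN pY pA = mulN (powN pA 3) pY := by decide +kernel

theorem chk_conj : (allLt 10 fun j => decide ((conjExp.getD j (0, 0)).1 < 5) &&
    ((conjExp.getD j (0, 0)).2 == 1 || (conjExp.getD j (0, 0)).2 == 10) &&
    mulN (powN pY (conjExp.getD j (0, 0)).1) (powN pA (j + 1)) ==
      mulN (powN pA (conjExp.getD j (0, 0)).2) (powN pY (conjExp.getD j (0, 0)).1)) = true := by decide +kernel

theorem chk_known : (knownA.all fun c => mulN c pA == mulN pA c) = true ∧
    (knownY.all fun c => mulN c pY == mulN pY c) = true := by decide +kernel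

theorem chk_enumA : (enumT pA 11 baseA).all (fun t => knownA.any fun c => t == baseA.map (tabN c)) = true := by
  decide +kernel

theorem chk_enumY : (enumT pY 5 baseY).all (fun t => knownY.any fun c => t == baseY.map (tabN c)) = true := by
  decide +kernel

theorem chk_base : (baseA.all fun r => decide (r < 100)) = true ∧ (baseY.all fun r => decide (r < 100)) = true := by
  decide +kernel

theorem chk_sep : sepOk pA 11 baseA = true ∧ sepOk pY 5 baseY = true := by decide +kernel

theorem chk_verdOne : verdOk 1 survivors.1 verdOne = true := by decide +kernel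

theorem chk_verdTen : verdOk 10 survivors.2 verdTen = true := by decide +kernel

/-- Check of the program. -/
def progOk : Bool :=
  elts.length == steps.length + 2 && (elts.getD 0 0 == pA) && (elts.getD 1 0 == pZ) &&
  (List.range steps.length).all fun k => decide ((steps.getD k (0, 0)).1 < k + 2) &&
    decide ((steps.getD k (0, 0)).2 < k + 2) &&
    elts.getD (k + 2) 0 == mulN (elts.getD (steps.getD k (0, 0)).1 0) (elts.getD (steps.getD k (0, 0)).2 0)

theorem chk_prog : progOk = true := by decide +kernel

/-- Increasing. -/
def incrN : List ℕ → Bool
  | [] => true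
  | [_] => true
  | x :: y :: r => decide (x < y) && incrN (y :: r)

/-- Check of the chain below the points `pre`. -/
def levOk : List (ℕ × List (ℕ × ℕ)) → List ℕ → Bool
  | [], _ => true
  | (x, l) :: rest, pre =>
    decide (x < 100) && incrN (l.map Prod.fst) &&
    (l.all fun e => decide (e.2 < elts.length) && (pre.all fun q => tabN (elts.getD e.2 0) q == q) &&
      tabN (elts.getD e.2 0) x == e.1) && levOk rest (x :: pre)

theorem chk_levels : levOk levels [] = true ∧ (levels.map fun l => l.2.length).prod = 44352000 := by decide +kernel

end CfsgLib.HSGraph.OutCert
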