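import Cfsg.Agent.HSGraph.Main

/-!
A strongly regular graph with parameters (100, 22, 0, 6) is the point-block graph of an S(3,6,22).
-/

set_option autoImplicit false

namespace CfsgLib.HSGraph

open Cfsg CfsgLib.Steiner Finset

universe u

variable {V : Type u} [Fintype V] [DecidableEq V] {G : SimpleGraph V} [DecidableRel G.Adj]

section srg

variable (hG : G.IsSRGWith 100 22 0 6)
include hG

theorem srg_card_nbr (v : V) : (G.neighborFinset v).card = 22 :=
  (G.card_neighborFinset_eq_degree v).trans (hG.regular v)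

theorem srg_common {v w : V} : (h : v ≠ w) →
    (G.neighborFinset v ∩ G.neighborFinset w).card = if G.Adj v w then 0 else 6 := by
  intro hne
  have e : (G.neighborFinset v ∩ G.neighborFinset w).card = Fintype.card (G.commonNeighbors v w) := by
    rw [← Set.toFinset_card]
    congr 1
    ext
    simp [SimpleGraph.mem_commonNeighbors]
  rw [e]
  split_ifs with h
  · exact hG.of_adj v w h
  · exact hG.of_not_adj hne h

theorem srg_triangle {a b c : V} (hab : G.Adj a b) (hac : G.Adj a c) : ¬ G.Adj b c := fun hbc => by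
  have h := srg_common hG hab.ne
  rw [if_pos hab, card_eq_zero] at h
  exact Finset.eq_empty_iff_forall_notMem.1 h c (by simp [hac, hbc])

/-- The vertices at distance two from `v₀`. -/
theorem srg_card_far (v₀ : V) : (univ.filter fun y => y ≠ v₀ ∧ ¬ G.Adj v₀ y).card = 77 := by
  have : (univ.filter fun y => y ≠ v₀ ∧ ¬ G.Adj v₀ y) = (insert v₀ (G.neighborFinset v₀))ᶜ := by
    ext; simp
  rw [this, card_compl, card_insert_of_notMem (by simp), srg_card_nbr hG, hG.card]

/-- Two vertices at distance two from `v₀` and from each other have two common neighbours next to `v₀`. -/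
theorem srg_inter_two {v₀ x y : V} (hx : x ≠ v₀) (hx' : ¬ G.Adj v₀ x) (hy : y ≠ v₀) (hy' : ¬ G.Adj v₀ y)
    (hxy : x ≠ y) (hxy' : ¬ G.Adj x y) :
    ((G.neighborFinset v₀ ∩ G.neighborFinset x) ∩ G.neighborFinset y).card = 2 := by
  set A := G.neighborFinset v₀ ∩ G.neighborFinset x with hA
  set Y := univ.filter fun y => (y ≠ v₀ ∧ ¬ G.Adj v₀ y) ∧ y ≠ x ∧ ¬ G.Adj x y with hY
  have hA6 : A.card = 6 := by rw [hA, srg_common hG hx.symm, if_neg hx']
  have hmA : ∀ {a}, a ∈ A → G.Adj v₀ a ∧ G.Adj x a := fun {a} ha => by simpa [hA] using ha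
  have hY60 : Y.card = 60 := by
    have e : (univ.filter fun y => y ≠ v₀ ∧ ¬ G.Adj v₀ y) =
        insert x (Y ∪ (G.neighborFinset x \ A)) := by
      ext z
      simp only [hY, hA, mem_filter, mem_univ, true_and, mem_insert, mem_union, mem_sdiff, mem_inter,
        SimpleGraph.mem_neighborFinset]
      constructor
      · rintro ⟨h1, h2⟩
        by_cases hz : z = x
        · exact Or.inl hz
        by_cases hz' : G.Adj x z
        · exact Or.inr (Or.inr ⟨hz', fun h => h2 h.1⟩)
        · exact Or.inr (Or.inl ⟨⟨h1, h2⟩, hz, hz'⟩)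
      · rintro (rfl | ⟨h, -⟩ | ⟨h, h'⟩)
        · exact ⟨hx, hx'⟩
        · exact h
        · exact ⟨fun e => hx' (e ▸ h.symm), fun e => h' ⟨e, h⟩⟩
    have h77 := srg_card_far hG v₀
    rw [e, card_insert_of_notMem (by simp [hY]), card_union_of_disjoint,
      card_sdiff_of_subset inter_subset_right, srg_card_nbr hG, hA6] at h77
    · omega
    · rw [disjoint_left]
      intro z hz hz'
      simp only [hY, mem_filter] at hz
      simp only [mem_sdiff, SimpleGraph.mem_neighborFinset] at hz'
      exact hz.2.2.2 hz'.1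
  have h1 : ∑ z ∈ Y, (A ∩ G.neighborFinset z).card = 120 := by
    have hcnt := sum_card_bipartiteAbove_eq_sum_card_bipartiteBelow (s := Y) (t := A) (fun z a => G.Adj z a)
    have hl : ∀ z, A.bipartiteAbove (fun z a => G.Adj z a) z = A ∩ G.neighborFinset z := fun z => by
      ext a; simp [bipartiteAbove]
    have hr : ∀ a ∈ A, (Y.bipartiteBelow (fun z a => G.Adj z a) a).card = 20 := by
      intro a ha
      obtain ⟨h0a, hxa⟩ := hmA ha
      have e : Y.bipartiteBelow (fun z a => G.Adj z a) a = ((G.neighborFinset a).erase v₀).erase x := by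
        ext z
        simp only [bipartiteBelow, hY, mem_filter, mem_univ, true_and, mem_erase, SimpleGraph.mem_neighborFinset]
        exact ⟨fun h => ⟨h.1.2.1, h.1.1.1, h.2.symm⟩, fun h => ⟨⟨⟨h.2.1, srg_triangle hG h0a.symm h.2.2⟩, h.1,
          srg_triangle hG hxa.symm h.2.2⟩, h.2.2.symm⟩⟩
      rw [e, card_erase_of_mem (by simp [hxa.symm, hx]), card_erase_of_mem (by simp [h0a.symm]), srg_card_nbr hG]
    simp only [hl] at hcnt
    rw [hcnt, sum_congr rfl hr, sum_const, hA6]
    rfl
  have h2 : ∑ z ∈ Y, (A ∩ G.neighborFinset z).offDiag.card = 120 := by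
    have hcnt := sum_card_bipartiteAbove_eq_sum_card_bipartiteBelow (s := Y) (t := A.offDiag)
      (fun z p => G.Adj z p.1 ∧ G.Adj z p.2)
    have hl : ∀ z, A.offDiag.bipartiteAbove (fun z p => G.Adj z p.1 ∧ G.Adj z p.2) z =
        (A ∩ G.neighborFinset z).offDiag := fun z => by
      ext p; simp [bipartiteAbove]; tauto
    have hr : ∀ p ∈ A.offDiag, (Y.bipartiteBelow (fun z p => G.Adj z p.1 ∧ G.Adj z p.2) p).card = 4 := by
      rintro ⟨a, b⟩ hp
      obtain ⟨ha, hb, hab⟩ := mem_offDiag.1 hp
      obtain ⟨h0a, hxa⟩ := hmA ha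
      obtain ⟨h0b, hxb⟩ := hmA hb
      have e : Y.bipartiteBelow (fun z p => G.Adj z p.1 ∧ G.Adj z p.2) (a, b) =
          ((G.neighborFinset a ∩ G.neighborFinset b).erase v₀).erase x := by
        ext z
        simp only [bipartiteBelow, hY, mem_filter, mem_univ, true_and, mem_erase, mem_inter,
          SimpleGraph.mem_neighborFinset]
        exact ⟨fun h => ⟨h.1.2.1, h.1.1.1, h.2.1.symm, h.2.2.symm⟩, fun h =>
          ⟨⟨⟨h.2.1, srg_triangle hG h0a.symm h.2.2.1⟩, h.1, srg_triangle hG hxa.symm h.2.2.1⟩,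
            h.2.2.1.symm, h.2.2.2.symm⟩⟩
      rw [e, card_erase_of_mem (by simp [hxa.symm, hxb.symm, hx]), card_erase_of_mem (by simp [h0a.symm, h0b.symm]),
        srg_common hG hab, if_neg (srg_triangle hG h0a h0b)]
    simp only [hl] at hcnt
    rw [hcnt, sum_congr rfl hr, sum_const, offDiag_card, hA6]
    rfl
  have hz : ∑ z ∈ Y, (((A ∩ G.neighborFinset z).card : ℤ) - 2) ^ 2 = 0 := by
    have e : ∀ z ∈ Y, (((A ∩ G.neighborFinset z).card : ℤ) - 2) ^ 2 =
        ((A ∩ G.neighborFinset z).offDiag.card : ℤ) - 3 * ((A ∩ G.neighborFinset z).card : ℤ) + 4 := by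
      intro z _
      rw [offDiag_card, Nat.cast_sub (Nat.le_mul_self _), Nat.cast_mul]
      ring
    rw [sum_congr rfl e, sum_add_distrib, sum_sub_distrib, ← mul_sum, ← Nat.cast_sum, ← Nat.cast_sum, h1, h2,
      sum_const, hY60]
    norm_num
  have hy'' : y ∈ Y := by simp [hY, hy, hy', hxy.symm, hxy']
  have := (sum_eq_zero_iff_of_nonneg fun z _ => sq_nonneg _).1 hz y hy''
  rw [sq_eq_zero_iff, sub_eq_zero] at this
  exact_mod_cast this

/-- The graph is the point-block graph of an S(3,6,22). -/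
theorem srg_exists_steiner : ∃ (α : Type u) (_ : Fintype α) (B : Set (Finset α)),
    IsSteinerSystem 3 6 B ∧ Fintype.card α = 22 ∧ Nonempty (pointBlockGraph B ≃g G) := by
  obtain ⟨v₀⟩ : Nonempty V := Fintype.card_pos_iff.1 (by rw [hG.card]; norm_num)
  let α := {a : V // G.Adj v₀ a}
  let X := {x : V // x ≠ v₀ ∧ ¬ G.Adj v₀ x}
  let blk : X → Finset α := fun x => univ.filter fun a => G.Adj x.1 a.1
  have hmap : ∀ x : X, (blk x).map (Function.Embedding.subtype _) = G.neighborFinset v₀ ∩ G.neighborFinset x.1 := by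
    intro x; ext a; simp [blk, α]; tauto
  have h6 : ∀ x, (blk x).card = 6 := fun x => by
    rw [← card_map (Function.Embedding.subtype _), hmap, srg_common hG x.2.1.symm, if_neg x.2.2]
  have hadj : ∀ {x y : X}, x ≠ y → G.Adj x.1 y.1 → Disjoint (blk x) (blk y) := by
    intro x y _ h
    rw [disjoint_left]
    intro a ha hb
    simp [blk] at ha hb
    exact srg_triangle hG ha.symm hb.symm h
  have htwo : ∀ {x y : X}, x ≠ y → ¬ G.Adj x.1 y.1 → (blk x ∩ blk y).card = 2 := by
    intro x y hxy h
    rw [← card_map (Function.Embedding.subtype _), map_inter, hmap, hmap,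
      ← srg_inter_two hG x.2.1 x.2.2 y.2.1 y.2.2 (fun e => hxy (Subtype.ext e)) h]
    congr 1
    ext; simp; tauto
  have hle : ∀ {x y : X}, x ≠ y → (blk x ∩ blk y).card ≤ 2 := by
    intro x y hxy
    by_cases h : G.Adj x.1 y.1
    · rw [disjoint_iff_inter_eq_empty.1 (hadj hxy h)]; simp
    · exact (htwo hxy h).le
  have hinj : Function.Injective blk := fun x y h => by
    by_contra hxy
    have := hle hxy
    rw [h, inter_self, h6] at this
    omega
  have hα : Fintype.card α = 22 := by
    rw [Fintype.card_subtype, ← srg_card_nbr hG v₀]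
    congr 1
    ext; simp
  have hX : Fintype.card X = 77 := by rw [Fintype.card_subtype]; exact srg_card_far hG v₀
  have hB : IsSteinerSystem 3 6 (Set.range blk) := by
    refine ⟨by rintro _ ⟨x, rfl⟩; exact h6 x, fun s hs => ?_⟩
    have huniq : ∀ x y : X, s ⊆ blk x → s ⊆ blk y → x = y := fun x y hx hy => by
      by_contra hxy
      have := card_le_card (subset_inter hx hy)
      have := hle hxy
      omega
    have hall : (univ : Finset X).biUnion (fun x => (blk x).powersetCard 3) = (univ : Finset α).powersetCard 3 := by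
      refine eq_of_subset_of_card_le (fun t ht => ?_) (le_of_eq ?_)
      · obtain ⟨x, -, hx⟩ := mem_biUnion.1 ht
        exact mem_powersetCard.2 ⟨subset_univ _, (mem_powersetCard.1 hx).2⟩
      · rw [card_biUnion, sum_congr rfl fun x _ => by rw [card_powersetCard, h6], sum_const, card_univ, hX,
          card_powersetCard, card_univ, hα]
        · rfl
        · intro x _ y _ hxy
          rw [Function.onFun, disjoint_left]
          intro t hx hy
          have := card_le_card (subset_inter (mem_powersetCard.1 hx).1 (mem_powersetCard.1 hy).1)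
          have := hle hxy
          have := (mem_powersetCard.1 hx).2
          omega
    have hs' : s ∈ (univ : Finset α).powersetCard 3 := mem_powersetCard.2 ⟨subset_univ _, hs⟩
    rw [← hall, mem_biUnion] at hs'
    obtain ⟨x, -, hx⟩ := hs'
    refine ⟨blk x, ⟨⟨x, rfl⟩, (mem_powersetCard.1 hx).1⟩, ?_⟩
    rintro _ ⟨⟨y, rfl⟩, hy⟩
    exact congrArg blk (huniq y x hy (mem_powersetCard.1 hx).1)
  let f : Option (α ⊕ X) → V := fun z => z.elim v₀ (Sum.elim Subtype.val Subtype.val)
  have hf : Function.Bijective f := by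
    constructor
    · rintro (_ | a | x) (_ | b | y) h <;> simp only [f, Option.elim, Sum.elim_inl, Sum.elim_inr] at h
      · rfl
      · exact absurd h b.2.ne
      · exact absurd h.symm y.2.1
      · exact absurd h.symm a.2.ne
      · rw [Subtype.ext h]
      · exact absurd (h ▸ a.2) y.2.2
      · exact absurd h x.2.1
      · exact absurd (h ▸ b.2) x.2.2
      · rw [Subtype.ext h]
    · intro v
      by_cases h0 : v = v₀
      · exact ⟨none, h0.symm⟩
      by_cases h1 : G.Adj v₀ v
      · exact ⟨some (Sum.inl ⟨v, h1⟩), rfl⟩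
      · exact ⟨some (Sum.inr ⟨v, h0, h1⟩), rfl⟩
  let E : Option (α ⊕ Set.range blk) ≃ V :=
    ((Equiv.optionCongr (Equiv.sumCongr (Equiv.refl α) (Equiv.ofInjective blk hinj))).symm).trans
      (Equiv.ofBijective f hf)
  have hE : ∀ z, E (z.map (Sum.map id fun x => ⟨blk x, x, rfl⟩)) = f z := fun z => by
    have e : z.map (Sum.map id fun x => ⟨blk x, x, rfl⟩) =
        Equiv.optionCongr (Equiv.sumCongr (Equiv.refl α) (Equiv.ofInjective blk hinj)) z := by
      rcases z with _ | a | x <;> rfl
    rw [e]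
    simp only [E, Equiv.trans_apply, Equiv.symm_apply_apply]
    rfl
  refine ⟨α, inferInstance, Set.range blk, hB, hα, ⟨⟨E, fun {p q} => ?_⟩⟩⟩
  obtain ⟨z, rfl⟩ : ∃ z : Option (α ⊕ X), z.map (Sum.map id fun x => ⟨blk x, x, rfl⟩) = p := by
    rcases p with _ | a | ⟨_, x, rfl⟩
    exacts [⟨none, rfl⟩, ⟨some (Sum.inl a), rfl⟩, ⟨some (Sum.inr x), rfl⟩]
  obtain ⟨w, rfl⟩ : ∃ w : Option (α ⊕ X), w.map (Sum.map id fun x => ⟨blk x, x, rfl⟩) = q := by
    rcases q with _ | a | ⟨_, x, rfl⟩
    exacts [⟨none, rfl⟩, ⟨some (Sum.inl a), rfl⟩, ⟨some (Sum.inr x), rfl⟩]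
  rw [hE, hE]
  have hmem : ∀ (a : α) (x : X), a ∈ blk x ↔ G.Adj x.1 a.1 := fun a x => by simp [blk]
  rcases z with _ | a | x <;> rcases w with _ | b | y <;>
    simp only [f, Option.map, Option.elim, Sum.map_inl, Sum.map_inr, Sum.elim_inl, Sum.elim_inr, id_eq]
  · simp
  · simp [adj_none, b.2]
  · simp [adj_none, y.2.2]
  · simp [SimpleGraph.adj_comm, adj_none, a.2]
  · simp [pointBlockGraph, SimpleGraph.fromRel_adj, pointBlockRel, srg_triangle hG a.2 b.2]
  · rw [adj_point_block, hmem, G.adj_comm]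
  · simp [SimpleGraph.adj_comm, adj_none, x.2.2]
  · rw [SimpleGraph.adj_comm (pointBlockGraph _), adj_point_block, hmem]
  · rw [adj_block_block hB]
    refine ⟨fun h => hadj (fun e => h.ne (congrArg Subtype.val e)) h, fun h => ?_⟩
    by_contra hn
    by_cases hxy : x = y
    · subst hxy
      rw [disjoint_self, bot_eq_empty, ← card_eq_zero, h6] at h
      omega
    · have h2 := htwo hxy hn
      rw [disjoint_iff_inter_eq_empty.1 h] at h2
      simp at h2

end srg

/-- Uniqueness of the strongly regular graph with parameters (100, 22, 0, 6). -/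
theorem srg_unique {W : Type*} [Fintype W] [DecidableEq W] {H : SimpleGraph W} [DecidableRel H.Adj]
    (hG : G.IsSRGWith 100 22 0 6) (hH : H.IsSRGWith 100 22 0 6) : Nonempty (G ≃g H) := by
  classical
  obtain ⟨α, _, B, hB, hα, ⟨φ⟩⟩ := srg_exists_steiner hG
  obtain ⟨β, _, B', hB', hβ, ⟨ψ⟩⟩ := srg_exists_steiner hH
  obtain ⟨θ, -⟩ := exists_graphIso (iso22 hB hα hB' hβ)
  exact ⟨(φ.symm.trans θ).trans ψ⟩

end CfsgLib.HSGraph
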