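import Cfsg.Agent.HSGraph.Param
import Cfsg.Agent.HSGraph.Unique
import Cfsg.Agent.S0431

/-!
A rank three group on 100 points with point stabiliser of order 443520 and suborbits 22, 77 is determined.
-/

set_option autoImplicit false

namespace CfsgLib.HSGraph

open Cfsg MulAction CfsgLib.Steiner

universe u v

theorem exists_model : ∃ H : Subgroup (Aut B0), IsHS H := exists_HS steiner0 (Fintype.card_fin 22)

/-- The group on the model graph. -/
noncomputable def modelHS : Subgroup (Aut B0) := exists_model.choose

theorem range_eq_model {M : Type*} [Group M] (φ : M →* Aut B0) (hφ : Function.Injective φ)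
    (hc : Nat.card M = 44352000) : φ.range = modelHS := by
  obtain ⟨hs, hH⟩ := exists_model.choose_spec
  haveI : IsSimpleGroup modelHS := hs
  haveI : Finite (Aut B0) := finite_aut
  have hR : Nat.card φ.range = 44352000 := by
    rw [← hc]; exact (Nat.card_congr (MonoidHom.ofInjective hφ).toEquiv).symm
  have hidx : φ.range.index = 2 := by
    have h := φ.range.card_mul_index
    rw [hR, card_aut steiner0 (Fintype.card_fin 22)] at h
    omega
  haveI : φ.range.Normal := Subgroup.normal_of_index_eq_two hidx
  rcases IsSimpleGroup.eq_bot_or_eq_top_of_normal (φ.range.subgroupOf modelHS) inferInstance with h | h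
  · exfalso
    have hinj : Function.Injective ((QuotientGroup.mk' φ.range).comp modelHS.subtype) := by
      rw [injective_iff_map_eq_one]
      intro x hx
      have : x ∈ φ.range.subgroupOf modelHS := by
        rw [Subgroup.mem_subgroupOf]
        exact (QuotientGroup.eq_one_iff _).1 hx
      rwa [h, Subgroup.mem_bot] at this
    have hle := Nat.card_le_card_of_injective _ hinj
    rw [← Subgroup.index_eq_card, hidx] at hle
    have hH' : Nat.card modelHS = 44352000 := hH
    omega
  · refine (Subgroup.eq_of_le_of_card_ge (Subgroup.subgroupOf_eq_top.1 h) ?_).symm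
    rw [hR]; exact hH.ge

variable {M : Type*} {Ω : Type v} [Group M] [MulAction M Ω] [FaithfulSMul M Ω] [Fintype Ω]

/-- Recognition. -/
theorem rankThree_iso (hΩ : Fintype.card Ω = 100) [IsPretransitive M Ω] (a b c : Ω)
    (hst : Nat.card (stabilizer M a) = 443520)
    (hb : (orbit (stabilizer M a) b).ncard = 22) (hc : (orbit (stabilizer M a) c).ncard = 77) :
    Nonempty (M ≃* modelHS) := by
  classical
  haveI : Finite M := Finite.of_injective (MulAction.toPerm (α := M) (β := Ω)) MulAction.toPerm_injective
  have hcardM : Nat.card M = 44352000 := by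
    rw [← (stabilizer M a).card_mul_index, index_stabilizer, hst, orbit_eq_univ, Set.ncard_univ,
      Nat.card_eq_fintype_card, hΩ]
  have hfin : ∀ s : Set Ω, s.Finite := fun s => s.toFinite
  have horb1 : ∀ x, x ≠ a → x ∈ orbit (stabilizer M a) b ∨ x ∈ orbit (stabilizer M a) c := by
    intro x hx
    have hdisj : Disjoint (orbit (stabilizer M a) b) (orbit (stabilizer M a) c) := by
      rw [Set.disjoint_left]
      intro z hz hz'
      have e : orbit (stabilizer M a) b = orbit (stabilizer M a) c :=
        (orbit_eq_iff.2 hz).symm.trans (orbit_eq_iff.2 hz')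
      rw [e, hc] at hb
      omega
    have hsub : orbit (stabilizer M a) b ∪ orbit (stabilizer M a) c ⊆ {a}ᶜ := by
      rintro z hz (rfl : z = a)
      have hself : orbit (stabilizer M z) z = {z} := by
        ext w
        exact ⟨fun ⟨g, hg⟩ => hg ▸ g.2, fun hw => hw ▸ mem_orbit_self _⟩
      rcases hz with hz | hz
      · rw [← orbit_eq_iff.2 hz, hself, Set.ncard_singleton] at hb
        omega
      · rw [← orbit_eq_iff.2 hz, hself, Set.ncard_singleton] at hc
        omega
    have heq : orbit (stabilizer M a) b ∪ orbit (stabilizer M a) c = {a}ᶜ := by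
      refine Set.eq_of_subset_of_ncard_le hsub ?_ (hfin _)
      rw [Set.ncard_union_eq hdisj (hfin _) (hfin _), hb, hc, Set.ncard_compl, Set.ncard_singleton,
        Nat.card_eq_fintype_card, hΩ]
    exact (Set.ext_iff.1 heq x).2 hx
  let R : Ω → Ω → Prop := fun x y => ∃ g : M, g • a = x ∧ g • b = y
  have hR1 : ∀ y, R a y ↔ y ∈ orbit (stabilizer M a) b := fun y =>
    ⟨fun ⟨g, h1, h2⟩ => ⟨⟨g, h1⟩, h2⟩, fun ⟨g, hg⟩ => ⟨g, g.2, hg⟩⟩
  have hRs : ∀ (g : M) x y, R x y → R (g • x) (g • y) := fun g x y ⟨h, h1, h2⟩ =>
    ⟨g * h, by rw [mul_smul, h1], by rw [mul_smul, h2]⟩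
  have hRsym : ∀ y, R y a ↔ R a y := by
    have hI : {y | R y a}.ncard = 22 := by
      -- count pairs
      have hout : ∀ x, ({y | R x y}).ncard = 22 := by
        intro x
        obtain ⟨g, rfl⟩ := exists_smul_eq M a x
        have : {y | R (g • a) y} = (fun y => g • y) '' orbit (stabilizer M a) b := by
          ext y
          refine ⟨fun h => ⟨g⁻¹ • y, (hR1 _).1 ?_, smul_inv_smul g y⟩, ?_⟩
          · have := hRs g⁻¹ _ _ h
            rwa [inv_smul_smul] at this
          · rintro ⟨z, hz, rfl⟩
            exact hRs g _ _ ((hR1 z).2 hz)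
        rw [this, Set.ncard_image_of_injective _ (MulAction.injective g), hb]
      have hin : ∀ x, ({y | R y x}).ncard = ({y | R y a}).ncard := by
        intro x
        obtain ⟨g, rfl⟩ := exists_smul_eq M a x
        have : {y | R y (g • a)} = (fun y => g • y) '' {y | R y a} := by
          ext y
          refine ⟨fun h => ⟨g⁻¹ • y, ?_, smul_inv_smul g y⟩, ?_⟩
          · have := hRs g⁻¹ _ _ h
            rwa [inv_smul_smul] at this
          · rintro ⟨z, hz, rfl⟩
            exact hRs g _ _ hz
        rw [this, Set.ncard_image_of_injective _ (MulAction.injective g)]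
      have h := Finset.sum_card_bipartiteAbove_eq_sum_card_bipartiteBelow (s := (Finset.univ : Finset Ω))
        (t := (Finset.univ : Finset Ω)) R
      have e1 : ∀ x, ((Finset.univ : Finset Ω).bipartiteAbove R x).card = 22 := fun x => by
        rw [← hout x, Set.ncard_eq_toFinset_card']
        congr 1; ext; simp [Finset.bipartiteAbove]
      have e2 : ∀ x, ((Finset.univ : Finset Ω).bipartiteBelow R x).card = ({y | R y a}).ncard := fun x => by
        rw [← hin x, Set.ncard_eq_toFinset_card']
        congr 1; ext; simp [Finset.bipartiteBelow]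
      rw [Finset.sum_congr rfl (fun x _ => e1 x), Finset.sum_congr rfl (fun x _ => e2 x), Finset.sum_const,
        Finset.sum_const, Finset.card_univ, hΩ, smul_eq_mul, smul_eq_mul] at h
      omega
    have hne : ¬ R a a := fun h => by
      have := (hR1 a).1 h
      have hself : orbit (stabilizer M a) a = {a} := by
        ext w
        exact ⟨fun ⟨g, hg⟩ => hg ▸ g.2, fun hw => hw ▸ mem_orbit_self _⟩
      rw [← orbit_eq_iff.2 this, hself, Set.ncard_singleton] at hb
      omega
    have hinv : ∀ g : stabilizer M a, ∀ y, R y a → R (g • y) a := fun g y h => by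
      have := hRs g.1 _ _ h
      rwa [show g.1 • a = a from g.2] at this
    have hIc : ∀ y, R y a → y ∉ orbit (stabilizer M a) c := fun y hy hyc => by
      have hsub : orbit (stabilizer M a) c ⊆ {y | R y a} := by
        rw [← orbit_eq_iff.2 hyc]
        rintro _ ⟨g, rfl⟩
        exact hinv g y hy
      have := Set.ncard_le_ncard hsub (hfin _)
      rw [hc, hI] at this
      omega
    have hsub : {y | R y a} ⊆ orbit (stabilizer M a) b := fun y hy =>
      (horb1 y fun e => hne (e ▸ hy)).resolve_right (hIc y hy)
    have heq := Set.eq_of_subset_of_ncard_le hsub (by rw [hb, hI]) (hfin _)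
    intro y
    rw [hR1, ← heq]
    rfl
  have hsymm : ∀ x y, R x y → R y x := by
    intro x y h
    obtain ⟨g, rfl⟩ := exists_smul_eq M a x
    have h' := hRs g⁻¹ _ _ h
    rw [inv_smul_smul] at h'
    have := hRs g _ _ ((hRsym _).2 h')
    rwa [smul_inv_smul] at this
  have hirr : ∀ x, ¬ R x x := by
    rintro x ⟨g, h1, h2⟩
    have : a = b := MulAction.injective g (h1.trans h2.symm)
    have hself : orbit (stabilizer M a) a = {a} := by
      ext w
      exact ⟨fun ⟨g, hg⟩ => hg ▸ g.2, fun hw => hw ▸ mem_orbit_self _⟩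
    rw [← this, hself, Set.ncard_singleton] at hb
    omega
  let Γ : SimpleGraph Ω := { Adj := R, symm := ⟨hsymm⟩, loopless := ⟨hirr⟩ }
  have hiff : ∀ (g : M) x y, Γ.Adj (g • x) (g • y) ↔ Γ.Adj x y := fun g x y =>
    ⟨fun h => by have := hRs g⁻¹ _ _ h; rwa [inv_smul_smul, inv_smul_smul] at this, hRs g x y⟩
  have hnbr : ∀ (g : M) x, Γ.neighborFinset (g • x) = (Γ.neighborFinset x).image (fun z => g • z) := by
    intro g x
    ext z
    simp only [SimpleGraph.mem_neighborFinset, Finset.mem_image]
    refine ⟨fun h => ⟨g⁻¹ • z, ?_, smul_inv_smul g z⟩, ?_⟩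
    · rwa [← hiff g, smul_inv_smul]
    · rintro ⟨w, hw, rfl⟩
      exact (hiff g x w).2 hw
  have hk : ∀ x, (Γ.neighborFinset x).card = 22 := by
    intro x
    obtain ⟨g, rfl⟩ := exists_smul_eq M a x
    rw [hnbr, Finset.card_image_of_injective _ (MulAction.injective g), ← hb, Set.ncard_eq_toFinset_card']
    congr 1
    ext z
    simp only [SimpleGraph.mem_neighborFinset, Set.mem_toFinset]
    exact hR1 z
  have hcomm : ∀ (g : M) x y, (Γ.neighborFinset (g • x) ∩ Γ.neighborFinset (g • y)).card =
      (Γ.neighborFinset x ∩ Γ.neighborFinset y).card := fun g x y => by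
    rw [hnbr, hnbr, ← Finset.image_inter _ _ (MulAction.injective g),
      Finset.card_image_of_injective _ (MulAction.injective g)]
  have hl : ∀ x y, Γ.Adj x y → (Γ.neighborFinset x ∩ Γ.neighborFinset y).card =
      (Γ.neighborFinset a ∩ Γ.neighborFinset b).card := by
    rintro x y ⟨g, rfl, rfl⟩
    exact hcomm g a b
  have hm : ∀ x y, x ≠ y → ¬ Γ.Adj x y → (Γ.neighborFinset x ∩ Γ.neighborFinset y).card =
      (Γ.neighborFinset a ∩ Γ.neighborFinset c).card := by
    intro x y hxy hn
    obtain ⟨g, rfl⟩ := exists_smul_eq M a x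
    have hy : g⁻¹ • y ∈ orbit (stabilizer M a) c := by
      refine (horb1 _ fun e => hxy (by rw [← e, smul_inv_smul])).resolve_left fun h => hn ?_
      have := hRs g _ _ ((hR1 _).2 h)
      rwa [smul_inv_smul] at this
    obtain ⟨s, hs⟩ := hy
    have e : (g * s.1) • c = y := by
      rw [mul_smul]
      exact (congrArg (g • ·) hs).trans (smul_inv_smul g y)
    rw [← e, show g • a = (g * s.1) • a by rw [mul_smul, show s.1 • a = a from s.2]]
    exact hcomm _ a c
  obtain ⟨e0, e6⟩ := srg_params hΩ hk hl hm
  have hsrg : Γ.IsSRGWith 100 22 0 6 := by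
    refine ⟨hΩ, fun x => ?_, fun x y h => ?_, fun x y hne h => ?_⟩
    · rw [← SimpleGraph.card_neighborFinset_eq_degree]; exact hk x
    · rw [← e0, ← hl x y h, ← Set.toFinset_card]
      congr 1; ext; simp [SimpleGraph.mem_commonNeighbors]
    · rw [← e6, ← hm x y hne h, ← Set.toFinset_card]
      congr 1; ext; simp [SimpleGraph.mem_commonNeighbors]
  obtain ⟨α, _, B, hB, hα, ⟨ψ⟩⟩ := srg_exists_steiner hsrg
  obtain ⟨θ, -⟩ := exists_graphIso (iso22 steiner0 (Fintype.card_fin 22) hB hα)
  let ι : pointBlockGraph B0 ≃g Γ := θ.trans ψ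
  let act : M →* (Γ ≃g Γ) :=
    { toFun := fun g => ⟨MulAction.toPerm g, fun {x y} => hiff g x y⟩
      map_one' := RelIso.ext fun x => one_smul M x
      map_mul' := fun g h => RelIso.ext fun x => mul_smul g h x }
  let conj : (Γ ≃g Γ) →* Aut B0 :=
    { toFun := fun f => (ι.trans f).trans ι.symm
      map_one' := RelIso.ext fun x => ι.symm_apply_apply x
      map_mul' := fun f f' => RelIso.ext fun x => by
        show ι.symm (f (f' (ι x))) = ι.symm (f (ι (ι.symm (f' (ι x)))))
        rw [ι.apply_symm_apply] }
  have hinj : Function.Injective (conj.comp act) := fun g h e => by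
    refine eq_of_smul_eq_smul (α := Ω) fun x => ?_
    have := DFunLike.congr_fun e (ι.symm x)
    have h2 : ι.symm (g • ι (ι.symm x)) = ι.symm (h • ι (ι.symm x)) := this
    rw [ι.apply_symm_apply] at h2
    exact ι.symm.injective h2
  exact ⟨(MonoidHom.ofInjective hinj).trans (MulEquiv.subgroupCongr (range_eq_model _ hinj hcardM))⟩

end CfsgLib.HSGraph
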