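import Cfsg.Agent.HSGraph.OutCheck
import Cfsg.Agent.HSGraph.RankThree

/-!
The group of even automorphisms of the graph on `Fin 100`: generators and two centralisers.
-/

set_option autoImplicit false

namespace CfsgLib.HSGraph.OutCert

open Cfsg CfsgLib.HSGraph Equiv MulAction

/-- The packed table describes the permutation. -/
def Rep (t : ℕ) (σ : Perm (Fin 100)) : Prop := ∀ k : Fin 100, (σ k).val = tabN t k.val

theorem tabN_eq (t k : ℕ) : tabN t k = t / 2 ^ (7 * k) % 128 := by
  rw [tabN, Nat.shiftRight_eq_div_pow]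
  exact Nat.and_two_pow_sub_one_eq_mod _ 7

theorem tabN_pk : ∀ (l : List ℕ), (∀ x ∈ l, x < 128) → ∀ k, k < l.length → tabN (pk l) k = l.getD k 0
  | [], _, k, hk => by simp at hk
  | x :: r, h, 0, _ => by
    rw [tabN_eq, pk, List.getD_cons_zero]
    have := h x List.mem_cons_self
    simp only [Nat.mul_zero, pow_zero, Nat.div_one]
    omega
  | x :: r, h, k + 1, hk => by
    have hx := h x List.mem_cons_self
    rw [List.getD_cons_succ, ← tabN_pk r (fun y hy => h y (List.mem_cons_of_mem _ hy)) k (by simpa using hk),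
      tabN_eq, tabN_eq, pk, Nat.mul_succ, pow_add, Nat.mul_comm (2 ^ (7 * k)) (2 ^ 7), ← Nat.div_div_eq_div_mul]
    congr 2
    omega

theorem rep_id : Rep idN 1 := fun k => by
  rw [idN, tabN_pk _ (fun x hx => by have := List.mem_range.1 hx; omega) _ (by simp [k.isLt]),
    List.getD_eq_getElem _ _ (by simp [k.isLt]), List.getElem_range]
  rfl

theorem rep_mul {t u : ℕ} {σ τ : Perm (Fin 100)} (ht : Rep t σ) (hu : Rep u τ) : Rep (mulN t u) (σ * τ) := by
  intro k
  have hb : ∀ x ∈ (List.range 100).map (fun k => tabN t (tabN u k)), x < 128 := by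
    intro x hx
    obtain ⟨i, -, rfl⟩ := List.mem_map.1 hx
    rw [tabN_eq]
    exact Nat.mod_lt _ (by norm_num)
  rw [mulN, tabN_pk _ hb _ (by simp [k.isLt]), List.getD_eq_getElem _ _ (by simp [k.isLt]), List.getElem_map,
    List.getElem_range, Perm.mul_apply, ht, hu]

theorem rep_pow {t : ℕ} {σ : Perm (Fin 100)} (ht : Rep t σ) : ∀ n, Rep (powN t n) (σ ^ n)
  | 0 => by rw [pow_zero]; exact rep_id
  | n + 1 => by rw [pow_succ']; exact rep_mul ht (rep_pow ht n)

theorem rep_ext {t u : ℕ} {σ τ : Perm (Fin 100)} (ht : Rep t σ) (hu : Rep u τ) (h : t = u) : σ = τ :=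
  Equiv.ext fun k => Fin.ext (by rw [ht, hu, h])

theorem rep_one {t : ℕ} {σ : Perm (Fin 100)} (ht : Rep t σ) (h : t = idN) : σ = 1 := rep_ext ht rep_id h

/-- Evaluation of a word in a monoid. -/
def evG {G : Type*} [Monoid G] (A B : G) : List Bool → G
  | [] => 1
  | x :: r => (bif x then B else A) * evG A B r

theorem map_evG {G H : Type*} [Monoid G] [Monoid H] (f : G →* H) (A B : G) :
    ∀ w, f (evG A B w) = evG (f A) (f B) w
  | [] => map_one f
  | x :: r => by cases x <;> simp [evG, map_evG f A B r]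

theorem rep_ev {s t : ℕ} {σ τ : Perm (Fin 100)} (hs : Rep s σ) (ht : Rep t τ) :
    ∀ w, Rep (evN s t w) (evG σ τ w)
  | [] => rep_id
  | x :: r => by
    cases x
    · exact rep_mul hs (rep_ev hs ht r)
    · exact rep_mul ht (rep_ev hs ht r)

/-- The element of order 11. -/
def gA : Perm (Fin 100) := tabPerm pA (powN pA 10) chk_inv.1
/-- The element normalising it. -/
def gY : Perm (Fin 100) := tabPerm pY (powN pY 4) chk_inv.2.1
/-- The partner. -/
def gZ : Perm (Fin 100) := tabPerm pZ (powN pZ 4) chk_inv.2.2.1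
/-- The involution. -/
def gS : Perm (Fin 100) := tabPerm pS pS chk_inv.2.2.2

theorem rA : Rep pA gA := fun _ => rfl
theorem rY : Rep pY gY := fun _ => rfl
theorem rZ : Rep pZ gZ := fun _ => rfl
theorem rS : Rep pS gS := fun _ => rfl

/-- All automorphisms of the graph. -/
def gAll : Subgroup (Perm (Fin 100)) where
  carrier := {σ | ∀ u v, adjT (σ u) (σ v) = adjT u v}
  one_mem' _ _ := rfl
  mul_mem' {s t} hs ht u v := (hs _ _).trans (ht u v)
  inv_mem' {s} hs u v := by
    rw [← hs]
    simp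

/-- The even ones. -/
def gEven : Subgroup (Perm (Fin 100)) := gAll ⊓ Perm.sign.ker

theorem mem_gAll {t : ℕ} {σ : Perm (Fin 100)} (hr : Rep t σ) (h : autOk t = true) : σ ∈ gAll := fun u v => by
  have := allLt_spec (allLt_spec h u.isLt) v.isLt
  rw [beq_iff_eq] at this
  show adjN (σ u).val (σ v).val = _
  rw [hr, hr]
  exact this

theorem sign_eq_one {σ : Perm (Fin 100)} {n : ℕ} (hn : Odd n) (h : σ ^ n = 1) : Perm.sign σ = 1 := by
  rcases Int.units_eq_one_or (Perm.sign σ) with e | e
  · exact e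
  · have := congrArg Perm.sign h
    rw [map_pow, map_one, e, hn.neg_one_pow] at this
    exact this.symm ▸ e

theorem A_pow : gA ^ 11 = 1 := rep_one (rep_pow rA 11) chk_ords.1
theorem Y_pow : gY ^ 5 = 1 := rep_one (rep_pow rY 5) chk_ords.2.2.1
theorem Z_pow : gZ ^ 5 = 1 := rep_one (rep_pow rZ 5) chk_ords.2.2.2.1
theorem YA : gY * gA = gA ^ 3 * gY := rep_ext (rep_mul rY rA) (rep_mul (rep_pow rA 3) rY) chk_ords.2.2.2.2

theorem A_ne : gA ≠ 1 := fun h => by
  have : ∀ k : Fin 100, tabN pA k.val = k.val := fun k => by rw [← rA k, h]; rfl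
  revert this
  decide +kernel

theorem A_mem : gA ∈ gEven := ⟨mem_gAll rA chk_aut.1, sign_eq_one (n := 11) (by decide) A_pow⟩
theorem Y_mem : gY ∈ gEven := ⟨mem_gAll rY chk_aut.2.1, sign_eq_one (n := 5) (by decide) Y_pow⟩
theorem Z_mem : gZ ∈ gEven := ⟨mem_gAll rZ chk_aut.2.2.1, sign_eq_one (n := 5) (by decide) Z_pow⟩
theorem S_mem : gS ∈ gAll := mem_gAll rS chk_aut.2.2.2

/-- An automorphism of the graph on `Fin 100` as one of the point-block graph. -/
noncomputable def toAut : gAll →* Aut B0 where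
  toFun σ := mkAut σ.1 σ.2
  map_one' := RelIso.ext fun x => vEquiv.symm_apply_apply x
  map_mul' s t := RelIso.ext fun x => by
    show vEquiv.symm (s.1 (t.1 (vEquiv x))) = vEquiv.symm (s.1 (vEquiv (vEquiv.symm (t.1 (vEquiv x)))))
    rw [vEquiv.apply_symm_apply]

theorem toAut_bijective : Function.Bijective toAut := by
  constructor
  · intro s t h
    refine Subtype.ext (Equiv.ext fun k => ?_)
    have e := DFunLike.congr_fun h (vEquiv.symm k)
    have e2 : vEquiv.symm (s.1 (vEquiv (vEquiv.symm k))) = vEquiv.symm (t.1 (vEquiv (vEquiv.symm k))) := e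
    simpa using e2
  · intro f
    refine ⟨⟨vEquiv.permCongr f.toEquiv, fun u v => ?_⟩, RelIso.ext fun x => ?_⟩
    · have hsurj : ∀ u, ∃ x, vEquiv x = u := vEquiv.surjective
      obtain ⟨x, rfl⟩ := hsurj u
      obtain ⟨y, rfl⟩ := hsurj v
      simp only [Equiv.permCongr_apply, Equiv.symm_apply_apply]
      exact Bool.eq_iff_iff.2 ((adj_iff _ _).symm.trans (f.map_rel_iff.trans (adj_iff x y)))
    · show vEquiv.symm (vEquiv.permCongr f.toEquiv (vEquiv x)) = f x
      simp [Equiv.permCongr_apply]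

/-- The odd automorphism. -/
def gH : gAll := ⟨hPerm, hPerm_adj⟩

theorem card_gEven : Nat.card gEven = 44352000 := by
  have hA : Nat.card gAll = 88704000 :=
    (Nat.card_congr (Equiv.ofBijective _ toAut_bijective)).trans (card_aut steiner0 (Fintype.card_fin 22))
  let φ : gAll →* ℤˣ := Perm.sign.comp gAll.subtype
  have hidx : φ.ker.index = 2 := by
    rw [Subgroup.index_ker, show φ.range = ⊤ from ?_, Subgroup.card_top, Nat.card_eq_fintype_card,
      Fintype.card_units_int]
    rw [eq_top_iff]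
    intro z _
    rcases Int.units_eq_one_or z with rfl | rfl
    · exact one_mem _
    · exact ⟨gH, sign_hPerm⟩
  have h := φ.ker.card_mul_index
  rw [hidx, hA] at h
  have e : Nat.card gEven = Nat.card φ.ker := Nat.card_congr
    { toFun := fun x => ⟨⟨x.1, x.2.1⟩, x.2.2⟩
      invFun := fun x => ⟨x.1.1, x.1.2, x.2⟩
      left_inv := fun _ => rfl
      right_inv := fun _ => rfl }
  omega

theorem gEven_iso : Nonempty (gEven ≃* modelHS) := by
  let f : gEven →* Aut B0 := toAut.comp (Subgroup.inclusion inf_le_left)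
  have hf : Function.Injective f := toAut_bijective.1.comp (Subgroup.inclusion_injective _)
  exact ⟨(MonoidHom.ofInjective hf).trans (MulEquiv.subgroupCongr (range_eq_model f hf card_gEven))⟩

/-! ### Generation -/

theorem incrN_nodup : ∀ {l : List ℕ}, incrN l = true → l.Nodup
  | [], _ => List.nodup_nil
  | [_], _ => List.nodup_singleton _
  | x :: y :: r, h => by
    simp only [incrN, Bool.and_eq_true, decide_eq_true_eq] at h
    have ih := incrN_nodup h.2
    refine List.nodup_cons.2 ⟨fun hx => ?_, ih⟩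
    have key : ∀ (r : List ℕ) (y z : ℕ), incrN (y :: r) = true → z ∈ r → y < z := by
      intro r
      induction r with
      | nil => intro y z _ hz; simp at hz
      | cons w r ih =>
        intro y z h hz
        simp only [incrN, Bool.and_eq_true, decide_eq_true_eq] at h
        rcases List.mem_cons.1 hz with rfl | hz
        · exact h.1
        · exact h.1.trans (ih w z h.2 hz)
    rcases List.mem_cons.1 hx with rfl | hx
    · omega
    · have := key r y x h.2 hx
      omega

theorem card_eq_orbit_mul (H : Subgroup (Perm (Fin 100))) (x : Fin 100) :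
    Nat.card H = (MulAction.orbit H x).ncard * Nat.card ↥(H ⊓ stabilizer (Perm (Fin 100)) x) := by
  rw [← (stabilizer H x).card_mul_index, index_stabilizer, mul_comm]
  congr 1
  exact Nat.card_congr
    { toFun := fun g => ⟨g.1.1, g.1.2, g.2⟩
      invFun := fun g => ⟨⟨g.1, g.2.1⟩, g.2.2⟩
      left_inv := fun _ => rfl
      right_inv := fun _ => rfl }

theorem card_ge : ∀ (lv : List (ℕ × List (ℕ × ℕ))) (pre : List ℕ) (H : Subgroup (Perm (Fin 100))),
    levOk lv pre = true →
    (∀ i < elts.length, ∀ σ, Rep (elts.getD i 0) σ → (∀ q ∈ pre, tabN (elts.getD i 0) q = q) → σ ∈ H) →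
    (∀ i < elts.length, ∃ σ, Rep (elts.getD i 0) σ) →
    (lv.map fun l => l.2.length).prod ≤ Nat.card H
  | [], _, H, _, _, _ => by rw [List.map_nil, List.prod_nil]; exact Nat.card_pos
  | (x, l) :: rest, pre, H, hok, hmem, hex => by
    simp only [levOk, Bool.and_eq_true, decide_eq_true_eq, List.all_eq_true, beq_iff_eq] at hok
    classical
    obtain ⟨⟨⟨hx, hinc⟩, hl⟩, hrest⟩ := hok
    rw [List.map_cons, List.prod_cons, card_eq_orbit_mul H ⟨x, hx⟩]
    refine Nat.mul_le_mul ?_ (card_ge rest (x :: pre) _ hrest (fun i hi σ hσ hfix => ?_) hex)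
    · have hsub : (l.map Prod.fst).toFinset ⊆
          ((Finset.univ.filter fun p => p ∈ MulAction.orbit H (⟨x, hx⟩ : Fin 100)).image Fin.val) := by
        intro q hq
        obtain ⟨e, he, rfl⟩ := List.mem_map.1 (List.mem_toFinset.1 hq)
        obtain ⟨⟨hi, hfix⟩, him⟩ := hl e he
        obtain ⟨σ, hσ⟩ := hex _ hi
        refine Finset.mem_image.2 ⟨σ ⟨x, hx⟩, Finset.mem_filter.2 ⟨Finset.mem_univ _,
          ⟨⟨σ, hmem _ hi σ hσ hfix⟩, rfl⟩⟩, ?_⟩
        rw [hσ]; exact him
      have h := Finset.card_le_card hsub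
      rw [List.toFinset_card_of_nodup (incrN_nodup hinc), List.length_map,
        Finset.card_image_of_injective _ Fin.val_injective] at h
      refine h.trans (le_of_eq ?_)
      rw [Set.ncard_eq_toFinset_card']
      congr 1; ext; simp
    · refine ⟨hmem i hi σ hσ fun q hq => hfix q (List.mem_cons_of_mem _ hq), Fin.ext ?_⟩
      show (σ ⟨x, hx⟩).val = x
      rw [hσ]; exact hfix x List.mem_cons_self

theorem elts_mem : ∀ i < elts.length, ∃ σ ∈ Subgroup.closure ({gA, gZ} : Set (Perm (Fin 100))),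
    Rep (elts.getD i 0) σ := by
  have h := chk_prog
  simp only [progOk, Bool.and_eq_true, beq_iff_eq, decide_eq_true_eq, List.all_eq_true, List.mem_range] at h
  obtain ⟨⟨⟨hlen, h0⟩, h1⟩, hs⟩ := h
  intro i
  induction i using Nat.strong_induction_on with
  | _ i ih =>
    intro hi
    rcases i with _ | _ | k
    · exact ⟨gA, Subgroup.subset_closure (by simp), h0 ▸ rA⟩
    · exact ⟨gZ, Subgroup.subset_closure (by simp), h1 ▸ rZ⟩
    · obtain ⟨⟨ha, hb⟩, he⟩ := hs k (by omega)
      obtain ⟨s, hsm, hsr⟩ := ih _ (by omega) (show (steps.getD k (0, 0)).1 < elts.length by omega)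
      obtain ⟨t, htm, htr⟩ := ih _ (by omega) (show (steps.getD k (0, 0)).2 < elts.length by omega)
      exact ⟨s * t, mul_mem hsm htm, he ▸ rep_mul hsr htr⟩

theorem closure_AZ : Subgroup.closure ({gA, gZ} : Set (Perm (Fin 100))) = gEven := by
  have hle : Subgroup.closure ({gA, gZ} : Set (Perm (Fin 100))) ≤ gEven :=
    (Subgroup.closure_le _).2 (by rintro x (rfl | rfl); exacts [A_mem, Z_mem])
  refine Subgroup.eq_of_le_of_card_ge hle ?_
  rw [card_gEven, ← chk_levels.2]
  refine card_ge levels [] _ chk_levels.1 (fun i hi σ hσ _ => ?_) (fun i hi => ?_)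
  · obtain ⟨τ, hτ, hr⟩ := elts_mem i hi
    rwa [rep_ext hσ hr rfl]
  · obtain ⟨τ, -, hr⟩ := elts_mem i hi
    exact ⟨τ, hr⟩

/-! ### Centralisers -/

theorem itN_spec {g : ℕ} {σ : Perm (Fin 100)} (hg : Rep g σ) (u : Fin 100) :
    ∀ i, itN g i u.val = ((σ ^ i) u).val
  | 0 => rfl
  | i + 1 => by rw [itN, itN_spec hg u i, pow_succ', Perm.mul_apply, hg]

theorem mem_enumT {g p : ℕ} {σ c : Perm (Fin 100)} (hg : Rep g σ) (hc : c ∈ gAll) (hcomm : Commute c σ) :
    ∀ S : List (Fin 100), S.map (fun r => (c r).val) ∈ enumT g p (S.map Fin.val)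
  | [] => List.mem_singleton.2 rfl
  | r :: S => by
    simp only [List.map_cons, enumT, List.mem_flatMap, List.mem_map, List.mem_filter, List.mem_range]
    refine ⟨_, mem_enumT hg hc hcomm S, _, ⟨(c r).isLt, ?_⟩, rfl⟩
    have hcσ : ∀ u, c (σ u) = σ (c u) := fun u => Perm.ext_iff.1 hcomm u
    have hit : ∀ (u : Fin 100) i, c ((σ ^ i) u) = (σ ^ i) (c u) := fun u i =>
      Perm.ext_iff.1 (hcomm.pow_right i) u
    have hsame : ∀ x y : Fin 100, (x.val == y.val) = ((c x).val == (c y).val) := fun x y => by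
      rw [Bool.eq_iff_iff, beq_iff_eq, beq_iff_eq, Fin.val_inj, Fin.val_inj, c.injective.eq_iff]
    simp only [okT, Bool.and_eq_true, List.all_eq_true, beq_iff_eq, List.mem_range]
    refine ⟨?_, fun uv huv i _ => ?_⟩
    · rw [← hg r, ← hg (c r), ← hcσ, hsame]
    · have huv' : uv ∈ ((r :: S).map fun x => (x.val, (c x).val)) := by
        rw [← List.zip_map' (f := Fin.val) (g := fun x => (c x).val)]
        exact huv
      obtain ⟨u, -, rfl⟩ := List.mem_map.1 huv'
      simp only [itN_spec hg]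
      rw [← hit]
      exact ⟨(hc ((σ ^ i) u) r).symm, hsame _ _⟩

theorem eq_of_base {g p : ℕ} {σ c c' : Perm (Fin 100)} (hg : Rep g σ) (hc : c ∈ gAll) (hc' : c' ∈ gAll)
    (h : Commute c σ) (h' : Commute c' σ) (S : List (Fin 100)) (hsep : sepOk g p (S.map Fin.val) = true)
    (he : ∀ r ∈ S, c r = c' r) : c = c' := by
  refine Equiv.ext fun v => ?_
  by_contra hne
  have hd : c'⁻¹ * c ∈ gAll := mul_mem (inv_mem hc') hc
  have hdc : Commute (c'⁻¹ * c) σ := h'.inv_left.mul_left h
  have hfix : ∀ u, (∃ r ∈ S, ∃ i, (σ ^ i) r = u) → (c'⁻¹ * c) u = u := by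
    rintro _ ⟨r, hr, i, rfl⟩
    have e := Perm.ext_iff.1 (hdc.pow_right i) r
    simp only [Perm.mul_apply] at e ⊢
    rw [e, he r hr]
    simp
  have hv : (c'⁻¹ * c) v ≠ v := fun e => hne (by
    simp only [Perm.mul_apply] at e
    exact (Equiv.apply_eq_iff_eq_symm_apply _).1 e)
  have key : ∀ v w : Fin 100, w.val < v.val → ((c'⁻¹ * c) v = w ∨ (c'⁻¹ * c) w = v) → False := by
    intro v w hlt hvw
    have := allLt_spec (allLt_spec hsep v.isLt) hlt
    rw [List.any_eq_true] at this
    obtain ⟨u, hu, hb⟩ := this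
    simp only [List.mem_flatMap, List.mem_map] at hu
    obtain ⟨_, ⟨r, hr, rfl⟩, i, -, rfl⟩ := hu
    rw [itN_spec hg] at hb
    have hu' := hfix _ ⟨r, hr, i, rfl⟩
    generalize (σ ^ i) r = u at hb hu'
    have e1 : ∀ z, adjN u.val ((c'⁻¹ * c) z).val = adjN u.val z.val := fun z => by
      have := hd u z
      rw [hu'] at this
      exact this
    have e2 : ∀ z, (u.val == ((c'⁻¹ * c) z).val) = (u.val == z.val) := fun z => by
      rw [Bool.eq_iff_iff, beq_iff_eq, beq_iff_eq, Fin.val_inj, Fin.val_inj]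
      conv_lhs => rw [← hu']
      exact (c'⁻¹ * c).injective.eq_iff
    rcases hvw with e | e
    · rw [← e, e1, e2] at hb; simp at hb
    · rw [← e, e1, e2] at hb; simp at hb
  rcases lt_or_gt_of_ne (Fin.val_injective.ne hv) with hlt | hlt
  · exact key _ _ hlt (Or.inl rfl)
  · exact key _ _ hlt (Or.inr rfl)

theorem centralizer_known {g p : ℕ} {σ : Perm (Fin 100)} (hg : Rep g σ) (B : List ℕ) (known : List ℕ)
    (hB : (B.all fun r => decide (r < 100)) = true)
    (henum : (enumT g p B).all (fun t => known.any fun c => t == B.map (tabN c)) = true)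
    (hsep : sepOk g p B = true) (hcomm : (known.all fun c => mulN c g == mulN g c) = true)
    (hknown : ∀ k ∈ known, ∃ τ ∈ gAll, Rep k τ) {c : Perm (Fin 100)} (hc : c ∈ gAll) (h : Commute c σ) :
    ∃ k ∈ known, Rep k c := by
  simp only [List.all_eq_true, decide_eq_true_eq] at hB
  let S : List (Fin 100) := B.pmap (fun r hr => ⟨r, hr⟩) hB
  have hS : S.map Fin.val = B := by simp [S, List.map_pmap]
  have hmem := mem_enumT (p := p) hg hc h S
  rw [hS] at hmem
  obtain ⟨k, hk, he⟩ := List.any_eq_true.1 (List.all_eq_true.1 henum _ hmem)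
  rw [beq_iff_eq] at he
  obtain ⟨τ, hτ, hr⟩ := hknown k hk
  have hτc : Commute τ σ := rep_ext (rep_mul hr hg) (rep_mul hg hr)
    (beq_iff_eq.1 (List.all_eq_true.1 hcomm k hk))
  refine ⟨k, hk, ?_⟩
  have e : c = τ := by
    refine eq_of_base hg hc hτ h hτc S (by rw [hS]; exact hsep) fun r hr' => Fin.ext ?_
    have e2 : S.map (fun r => (c r).val) = S.map (fun r => tabN k r.val) := by
      rw [he, ← hS, List.map_map]; rfl
    rw [hr, List.map_inj_left.1 e2 r hr']
  rwa [e]

end CfsgLib.HSGraph.OutCert
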