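import Mathlib

/-!
The parameters of a rank three graph on 100 points with valency 22.
-/

set_option autoImplicit false

namespace CfsgLib.HSGraph

open Finset

variable {V : Type*} [Fintype V] [DecidableEq V] {G : SimpleGraph V} [DecidableRel G.Adj]

theorem srg_params (hV : Fintype.card V = 100) (hk : ∀ v, (G.neighborFinset v).card = 22) {lam mu : ℕ}
    (hl : ∀ v w, G.Adj v w → (G.neighborFinset v ∩ G.neighborFinset w).card = lam)
    (hm : ∀ v w, v ≠ w → ¬ G.Adj v w → (G.neighborFinset v ∩ G.neighborFinset w).card = mu) :
    lam = 0 ∧ mu = 6 := by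
  obtain ⟨a⟩ : Nonempty V := Fintype.card_pos_iff.1 (by omega)
  set N := G.neighborFinset a with hN
  set R := (insert a N)ᶜ with hR
  have hRc : R.card = 77 := by
    rw [hR, card_compl, card_insert_of_notMem (by simp [hN]), hV, hk]
  have hcount : 22 * 22 = 22 + 22 * lam + 77 * mu := by
    have h := sum_card_bipartiteAbove_eq_sum_card_bipartiteBelow (s := (univ : Finset V)) (t := N) (fun y z => G.Adj y z)
    have hl' : ∀ y, N.bipartiteAbove (fun y z => G.Adj y z) y = N ∩ G.neighborFinset y := fun y => by
      ext; simp [bipartiteAbove]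
    have hr' : ∀ z ∈ N, ((univ : Finset V).bipartiteBelow (fun y z => G.Adj y z) z).card = 22 := fun z _ => by
      rw [← hk z]; congr 1; ext; simp [bipartiteBelow, G.adj_comm]
    simp only [hl'] at h
    rw [sum_congr rfl hr', sum_const, hk, smul_eq_mul, ← union_compl (insert a N), sum_union disjoint_compl_right,
      sum_insert (by simp [hN]), inter_self, hk,
      sum_congr rfl (fun y hy => hl a y (by simpa [hN] using hy)), sum_const, hk, ← hR,
      sum_congr rfl (fun y hy => hm a y (by simp [hR, hN] at hy; exact Ne.symm hy.1) (by simp [hR, hN] at hy; exact hy.2)),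
      sum_const, hRc] at h
    simpa using h.symm
  have hle : lam ≤ 21 := by omega
  have hcases : (lam = 0 ∧ mu = 6) ∨ (lam = 7 ∧ mu = 4) ∨ (lam = 14 ∧ mu = 2) ∨ (lam = 21 ∧ mu = 0) := by omega
  rcases hcases with h | ⟨rfl, rfl⟩ | ⟨rfl, rfl⟩ | ⟨rfl, rfl⟩
  · exact h
  · exfalso
    let A : Matrix V V ℚ := G.adjMatrix ℚ
    let J : Matrix V V ℚ := Matrix.of fun _ _ => 1
    have hAA : A * A = (18 : ℚ) • 1 + (3 : ℚ) • A + (4 : ℚ) • J := by
      ext x y
      have e : (A * A) x y = ((G.neighborFinset x ∩ G.neighborFinset y).card : ℚ) := by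
        show (A * G.adjMatrix ℚ) x y = _
        rw [SimpleGraph.mul_adjMatrix_apply]
        simp only [A, SimpleGraph.adjMatrix_apply, sum_boole]
        congr 2
        ext z; simp [and_comm]
      rw [e]
      simp only [Matrix.add_apply, Matrix.smul_apply, Matrix.one_apply, smul_eq_mul, J, Matrix.of_apply, A,
        SimpleGraph.adjMatrix_apply]
      rcases eq_or_ne x y with rfl | hxy
      · rw [inter_self, hk]; simp; norm_num
      · by_cases h : G.Adj x y
        · rw [hl x y h]; simp [hxy, h]; norm_num
        · rw [hm x y hxy h]; simp [hxy, h]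
    have hAJ : A * J = (22 : ℚ) • J := by
      ext x y
      show (G.adjMatrix ℚ * J) x y = _
      rw [SimpleGraph.adjMatrix_mul_apply]
      simp [J, hk, -SimpleGraph.card_neighborFinset_eq_degree]
    have hJA : J * A = (22 : ℚ) • J := by
      ext x y
      show (J * G.adjMatrix ℚ) x y = _
      rw [SimpleGraph.mul_adjMatrix_apply]
      simp [J, hk, -SimpleGraph.card_neighborFinset_eq_degree]
    have hJJ : J * J = (100 : ℚ) • J := by
      ext x y
      simp [J, Matrix.mul_apply, hV]
    let P : Matrix V V ℚ := (1 / 9 : ℚ) • A + (1 / 3 : ℚ) • 1 - (1 / 36 : ℚ) • J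
    have hPP : P * P = P := by
      simp only [P, add_mul, sub_mul, mul_add, mul_sub, Matrix.smul_mul, Matrix.mul_smul, Matrix.mul_one,
        Matrix.one_mul, hAA, hAJ, hJA, hJJ, smul_add, smul_sub, smul_smul]
      module
    have htr : P.trace = 275 / 9 := by
      simp [P, A, J, Matrix.trace_sub, Matrix.trace_add, Matrix.trace_smul, hV, Matrix.trace]
      norm_num
    have hidem : IsIdempotentElem (Matrix.toLin' P) := by
      unfold IsIdempotentElem
      rw [Module.End.mul_eq_comp, ← Matrix.toLin'_mul, hPP]
    have hp := (LinearMap.isProj_range_iff_isIdempotentElem _).2 hidem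
    have := hp.trace
    rw [Matrix.trace_toLin'_eq, htr, div_eq_iff (by norm_num)] at this
    norm_cast at this
    omega
  · exfalso
    obtain ⟨x, hx⟩ := card_pos.1 (show 0 < N.card by rw [hk]; omega)
    have hax : G.Adj a x := by simpa [hN] using hx
    obtain ⟨y, hy⟩ := card_pos.1 (show 0 < (N \ insert x (N ∩ G.neighborFinset x)).card by
      rw [card_sdiff_of_subset (insert_subset hx inter_subset_left), card_insert_of_notMem (by simp), hk, hl a x hax]
      omega)
    simp only [mem_sdiff, mem_insert, mem_inter, not_or, not_and, SimpleGraph.mem_neighborFinset, hN] at hy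
    obtain ⟨hay, hyx, hxy⟩ := hy
    have hxy' := hxy hay
    set U := N \ {x, y} with hU
    have hUc : U.card = 20 := by
      rw [hU, card_sdiff_of_subset (by simp [insert_subset_iff, hN, hax, hay]), hk, card_pair (Ne.symm hyx)]
    have hsx : N ∩ G.neighborFinset x ⊆ U := fun z hz => by
      simp only [hU, mem_sdiff, mem_inter, mem_insert, mem_singleton, SimpleGraph.mem_neighborFinset] at hz ⊢
      exact ⟨hz.1, fun h => h.elim (fun e => hz.2.ne e.symm) (fun e => hxy' (e ▸ hz.2))⟩
    have hsy : N ∩ G.neighborFinset y ⊆ U := fun z hz => by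
      simp only [hU, mem_sdiff, mem_inter, mem_insert, mem_singleton, SimpleGraph.mem_neighborFinset] at hz ⊢
      exact ⟨hz.1, fun h => h.elim (fun e => hxy' (e ▸ hz.2).symm) (fun e => hz.2.ne e.symm)⟩
    have h1 := card_union_add_card_inter (N ∩ G.neighborFinset x) (N ∩ G.neighborFinset y)
    have h2 := card_le_card (union_subset hsx hsy)
    have h3 : ((N ∩ G.neighborFinset x) ∩ (N ∩ G.neighborFinset y)).card + 1 ≤ 2 := by
      rw [← hm x y (Ne.symm hyx) hxy', ← card_insert_of_notMem (s := (N ∩ G.neighborFinset x) ∩ (N ∩ G.neighborFinset y))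
        (a := a) (by simp [hN])]
      refine card_le_card (insert_subset (by simp [hax.symm, hay.symm]) fun z hz => ?_)
      simp only [mem_inter] at hz ⊢
      exact ⟨hz.1.2, hz.2.2⟩
    have := hl a x hax
    have := hl a y hay
    rw [← hN] at *
    omega
  · exfalso
    have htrans : ∀ {x y z}, G.Adj x y → G.Adj y z → x ≠ z → G.Adj x z := fun {x y z} hxy hyz hxz => by
      by_contra h
      have h0 := hm x z hxz h
      rw [card_eq_zero] at h0
      exact Finset.eq_empty_iff_forall_notMem.1 h0 y (by simp [hxy, hyz.symm])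
    let s : Setoid V := ⟨fun x y => x = y ∨ G.Adj x y, fun x => Or.inl rfl,
      fun h => h.imp Eq.symm (fun h => h.symm), fun {x y z} h h' => by
        rcases h with rfl | h
        · exact h'
        rcases h' with rfl | h'
        · exact Or.inr h
        by_cases hxz : x = z
        · exact Or.inl hxz
        · exact Or.inr (htrans h h' hxz)⟩
    classical
    have h := card_eq_sum_card_fiberwise (s := (univ : Finset V)) (t := (univ : Finset (Quotient s)))
      (f := Quotient.mk s) (fun _ _ => mem_univ _)
    have hfib : ∀ o : Quotient s, ((univ : Finset V).filter fun v => Quotient.mk s v = o).card = 23 := by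
      intro o
      obtain ⟨x, rfl⟩ := Quotient.mk_surjective o
      have e : ((univ : Finset V).filter fun v => Quotient.mk s v = Quotient.mk s x) =
          insert x (G.neighborFinset x) := by
        ext v
        simp only [mem_filter, mem_univ, true_and, mem_insert, SimpleGraph.mem_neighborFinset]
        exact ⟨fun hv => (Quotient.exact hv).imp id (fun h => h.symm), fun hv => Quotient.sound (hv.imp id (fun h => h.symm))⟩
      rw [e, card_insert_of_notMem (by simp), hk]
    rw [sum_congr rfl (fun o _ => hfib o), sum_const, card_univ, card_univ, hV, smul_eq_mul] at h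
    omega

end CfsgLib.HSGraph
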